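import Cfsg.Agent.Omega.All.F4K.Irr

/-!
# `F₄(q)`: the fields `irr`, `comm`, `typ`, `mix` in local coordinates (helper866)

* `LocA.conj_l`, `LocA.conj_c` : the action of the Levi factor on `V`;
* `LocA.transV` : `P` is transitive on `V/X`: every `g ∈ V ∖ X` is conjugate under `P` to `x₀(r) v_(0,+)(α)`, `α ≠ 0`;
* `LocA.mix` : `[g, Q] = X` for `g ∈ Q ∖ V`;
* `LocA.comm_eq` : `[Q, Q] = X`; `LocA.irr_eq` : the field `irr`.
-/

set_option autoImplicit false
set_option linter.unusedSectionVars false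
set_option linter.style.haveILetI false

namespace Cfsg.Agent.Omega.All.F4K.LocA

open Subgroup
open Cfsg.Agent.OddHalf.D7F4Ex (J Sp ng fl op thd wt ws ng_ng ng_ne op_op fl_fl fl_self fl_ne)
open Cfsg.Agent.OddHalf.D7F4Ex.Loc (gV Xs Vs Qs Ps zero_of_add self_of_add inv_of_add X_le_V V_le_Q Q_le_P v_mem z_mem
  c_mem l_mem th_mem)
open scoped commutatorElement

variable {F : Type*} [Field F] {G : Type*} [Group G] {x0 : F → G} {v : J → F → G} {z : Sp → F → G} {c : J → F → G}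
  {l : J → J → F → G} {th : (Fin 3 → Fˣ) →* G} (L : LocA x0 v z c l th)

include L

/-- a property of `ω` which is additive holds if it holds for the `Pi.single j u` -/
theorem ind_single {p : (J → F) → Prop} (h0 : p 0) (ha : ∀ ω ω', p ω → p ω' → p (ω + ω'))
    (hs : ∀ j u, p (Pi.single j u)) (ω : J → F) : p ω := by
  classical
  have h1 : ω = ∑ j, Pi.single j (ω j) := (Finset.univ_sum_single ω).symm
  rw [h1]
  exact Finset.sum_induction _ p ha h0 fun j _ => hs j _

theorem conj_l {a b : J} (hab : a.1 ≠ b.1) (s : F) (ω : J → F) :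
    l a b s * (L.vv ω : G) * (l a b s)⁻¹ = L.vv (ω + Pi.single b (s * ω (ng a)) + Pi.single a (s * ω (ng b))) := by
  have hbn : ng b ≠ ng a := fun h => hab (by
    have := congrArg Prod.fst h
    exact this.symm)
  refine L.ind_single (p := fun ω => l a b s * (L.vv ω : G) * (l a b s)⁻¹ =
    L.vv (ω + Pi.single b (s * ω (ng a)) + Pi.single a (s * ω (ng b)))) ?_ ?_ ?_ ω
  · rw [L.vv_zero, mul_one, mul_inv_cancel, Pi.zero_apply, Pi.zero_apply, mul_zero, Pi.single_zero, Pi.single_zero,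
      add_zero, add_zero, L.vv_zero]
  · intro ω ω' h h'
    have e : ω + ω' + Pi.single b (s * (ω + ω') (ng a)) + Pi.single a (s * (ω + ω') (ng b)) =
        (ω + Pi.single b (s * ω (ng a)) + Pi.single a (s * ω (ng b))) +
          (ω' + Pi.single b (s * ω' (ng a)) + Pi.single a (s * ω' (ng b))) := by
      rw [Pi.add_apply, Pi.add_apply, mul_add, mul_add, Pi.single_add, Pi.single_add]; abel
    rw [e, L.vv_add, L.vv_add, ← h, ← h']
    group
  · intro j u
    rw [L.vv_single]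
    by_cases h1 : j = ng a
    · subst h1
      rw [Pi.single_eq_same, Pi.single_eq_of_ne hbn, mul_zero, Pi.single_zero, add_zero, L.vv_add, L.vv_single,
        L.vv_single, L.l_v _ _ _ _ hab, ← L.v_v]
    by_cases h2 : j = ng b
    · subst h2
      rw [Pi.single_eq_same, Pi.single_eq_of_ne (Ne.symm hbn), mul_zero, Pi.single_zero, add_zero, L.vv_add, L.vv_single,
        L.vv_single, L.l_symm, L.l_v _ _ _ _ (Ne.symm hab), ← L.v_v]
    · rw [Pi.single_eq_of_ne (Ne.symm h1), Pi.single_eq_of_ne (Ne.symm h2), mul_zero, Pi.single_zero, Pi.single_zero,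
        add_zero, add_zero, L.vv_single, L.l_v' _ _ _ _ _ hab h1 h2, mul_inv_cancel_right]

theorem conj_c (k : J) (u : F) (ω : J → F) :
    c k u * (L.vv ω : G) * (c k u)⁻¹ = x0 (u * ω (ng k)) * L.vv (ω + Pi.single k (u ^ 2 * ω (ng k))) := by
  refine L.ind_single (p := fun ω => c k u * (L.vv ω : G) * (c k u)⁻¹ =
    x0 (u * ω (ng k)) * L.vv (ω + Pi.single k (u ^ 2 * ω (ng k)))) ?_ ?_ ?_ ω
  · rw [L.vv_zero, mul_one, mul_inv_cancel, Pi.zero_apply, mul_zero, mul_zero, Pi.single_zero, add_zero, L.vv_zero,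
      zero_of_add L.x0_add, mul_one]
  · intro ω ω' h h'
    have e : ω + ω' + Pi.single k (u ^ 2 * (ω + ω') (ng k)) =
        (ω + Pi.single k (u ^ 2 * ω (ng k))) + (ω' + Pi.single k (u ^ 2 * ω' (ng k))) := by
      rw [Pi.add_apply, mul_add, Pi.single_add]; abel
    have h3 := L.VV (z := z) (X_le_V (L.x0_mem (u * ω' (ng k)))) (L.vv (ω + Pi.single k (u ^ 2 * ω (ng k)))).2
    calc c k u * (L.vv (ω + ω') : G) * (c k u)⁻¹ =
        (c k u * L.vv ω * (c k u)⁻¹) * (c k u * L.vv ω' * (c k u)⁻¹) := by rw [L.vv_add]; group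
      _ = x0 (u * ω (ng k)) * (L.vv (ω + Pi.single k (u ^ 2 * ω (ng k))) * x0 (u * ω' (ng k))) *
          L.vv (ω' + Pi.single k (u ^ 2 * ω' (ng k))) := by rw [h, h']; group
      _ = (x0 (u * ω (ng k)) * x0 (u * ω' (ng k))) * (L.vv (ω + Pi.single k (u ^ 2 * ω (ng k))) *
          L.vv (ω' + Pi.single k (u ^ 2 * ω' (ng k)))) := by rw [← h3]; group
      _ = x0 (u * ω (ng k) + u * ω' (ng k)) * L.vv ((ω + Pi.single k (u ^ 2 * ω (ng k))) +
          (ω' + Pi.single k (u ^ 2 * ω' (ng k)))) := by rw [L.x0_add, ← L.vv_add]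
      _ = _ := by rw [e, Pi.add_apply, mul_add]
  · intro j u'
    rw [L.vv_single]
    by_cases h1 : j = ng k
    · subst h1
      rw [Pi.single_eq_same, L.vv_add, L.vv_single, L.vv_single, L.c_v, mul_assoc, ← L.v_v]
    · rw [Pi.single_eq_of_ne (Ne.symm h1), mul_zero, mul_zero, Pi.single_zero, add_zero, zero_of_add L.x0_add, one_mul,
        L.vv_single, L.c_v' _ _ _ _ h1, mul_inv_cancel_right]

/-- conjugate under `P` to `x₀(r) v_(0,+)(α)`, `α ≠ 0` -/
def Good (x0 : F → G) (v : J → F → G) (z : Sp → F → G) (c : J → F → G) (l : J → J → F → G)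
    (th : (Fin 3 → Fˣ) →* G) (g : G) : Prop :=
  ∃ p ∈ Ps x0 v z c l th, ∃ r α, α ≠ 0 ∧ p * g * p⁻¹ = x0 r * v (0, true) α

omit L in
theorem Good.of_conj {g p : G} (hp : p ∈ Ps x0 v z c l th) (h : Good x0 v z c l th (p * g * p⁻¹)) :
    Good x0 v z c l th g := by
  obtain ⟨p', hp', r, α, h1, h2⟩ := h
  exact ⟨p' * p, mul_mem hp' hp, r, α, h1, by rw [← h2]; group⟩

theorem conj_x0 {p : G} (hp : p ∈ Ps x0 v z c l th) (r : F) (y : G) : p * (x0 r * y) * p⁻¹ = x0 r * (p * y * p⁻¹) := by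
  have h1 := L.XP (L.x0_mem r) hp
  calc p * (x0 r * y) * p⁻¹ = (p * x0 r) * y * p⁻¹ := by group
    _ = _ := by rw [← h1]; group

/-- only the coordinates `(0, ±)` -/
theorem good_C [Finite F] (r : F) (ω : J → F) (h1 : ω (0, true) ≠ 0) (h2 : ∀ j : J, j.1 ≠ 0 → ω j = 0) :
    Good x0 v z c l th (x0 r * L.vv ω) := by
  obtain ⟨u, hu⟩ := L.exists_sqrt (ω (0, false) * (ω (0, true))⁻¹)
  have hp : c (0, false) u ∈ Ps x0 v z c l th := c_mem _ _
  have hng : ng ((0, false) : J) = (0, true) := rfl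
  refine ⟨_, hp, r + u * ω (0, true), ω (0, true), h1, ?_⟩
  rw [L.conj_x0 hp, L.conj_c, hng, hu, ← mul_assoc, ← L.x0_add]
  congr 1
  have e : ω + Pi.single (0, false) (ω (0, false) * (ω (0, true))⁻¹ * ω (0, true)) = Pi.single (0, true) (ω (0, true)) := by
    funext j
    rw [inv_mul_cancel_right₀ h1, Pi.add_apply]
    by_cases hj : j.1 = 0
    · obtain ⟨j1, j2⟩ := j
      simp only at hj
      subst hj
      cases j2
      · rw [Pi.single_eq_same, L.two, Pi.single_eq_of_ne (by simp)]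
      · rw [Pi.single_eq_same, Pi.single_eq_of_ne (by simp), add_zero]
    · have h3 : j ≠ (0, false) := fun h => hj (by rw [h])
      have h4 : j ≠ (0, true) := fun h => hj (by rw [h])
      rw [Pi.single_eq_of_ne h3, Pi.single_eq_of_ne h4, add_zero, h2 j hj]
  rw [e, L.vv_single]

open scoped Classical in
theorem good_B [Finite F] (r : F) (n : ℕ) : ∀ ω : J → F, ω (0, true) ≠ 0 →
    (Finset.univ.filter fun j : J => j.1 ≠ 0 ∧ ω j ≠ 0).card ≤ n → Good x0 v z c l th (x0 r * L.vv ω) := by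
  induction n with
  | zero =>
    intro ω h1 h2
    refine L.good_C r ω h1 fun j hj => ?_
    by_contra h3
    have h4 : j ∈ Finset.univ.filter fun j : J => j.1 ≠ 0 ∧ ω j ≠ 0 := Finset.mem_filter.2 ⟨Finset.mem_univ _, hj, h3⟩
    rw [Finset.card_eq_zero.1 (Nat.le_zero.1 h2)] at h4
    exact absurd h4 (Finset.notMem_empty _)
  | succ n ih =>
    intro ω h1 h2
    by_cases h3 : ∃ j : J, j.1 ≠ 0 ∧ ω j ≠ 0
    · obtain ⟨j, hj, hω⟩ := h3
      have hne : ((0, false) : J).1 ≠ j.1 := Ne.symm hj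
      have hp : l (0, false) j (ω j * (ω (0, true))⁻¹) ∈ Ps x0 v z c l th := l_mem hne _
      refine Good.of_conj hp ?_
      rw [L.conj_x0 hp, L.conj_l hne]
      have hng : ng ((0, false) : J) = (0, true) := rfl
      rw [hng, inv_mul_cancel_right₀ h1]
      set ω' : J → F := ω + Pi.single j (ω j) + Pi.single (0, false) (ω j * (ω (0, true))⁻¹ * ω (ng j)) with hω'
      have e1 : ∀ i : J, i ≠ j → i ≠ (0, false) → ω' i = ω i := by
        intro i hi hi'
        rw [hω', Pi.add_apply, Pi.add_apply, Pi.single_eq_of_ne hi, Pi.single_eq_of_ne hi', add_zero, add_zero]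
      have hj0 : j ≠ (0, false) := fun h => hj (by rw [h])
      have e2 : ω' j = 0 := by
        rw [hω', Pi.add_apply, Pi.add_apply, Pi.single_eq_same, Pi.single_eq_of_ne hj0, add_zero, L.two]
      have e3 : ω' (0, true) = ω (0, true) := e1 _ (fun h => hj (by rw [← h])) (by simp)
      refine ih ω' (by rw [e3]; exact h1) ?_
      have h4 : (Finset.univ.filter fun i : J => i.1 ≠ 0 ∧ ω' i ≠ 0) ⊂
          (Finset.univ.filter fun i : J => i.1 ≠ 0 ∧ ω i ≠ 0) := by
        rw [Finset.ssubset_iff_of_subset]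
        · refine ⟨j, Finset.mem_filter.2 ⟨Finset.mem_univ _, hj, hω⟩, fun h => ?_⟩
          exact (Finset.mem_filter.1 h).2.2 e2
        · intro i hi
          obtain ⟨-, hi1, hi2⟩ := Finset.mem_filter.1 hi
          have hij : i ≠ j := fun h => hi2 (by rw [h]; exact e2)
          have hi0 : i ≠ (0, false) := fun h => hi1 (by rw [h])
          exact Finset.mem_filter.2 ⟨Finset.mem_univ _, hi1, by rw [← e1 i hij hi0]; exact hi2⟩
      have := Finset.card_lt_card h4
      omega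
    · push Not at h3
      exact L.good_C r ω h1 h3

theorem good_A [Finite F] (r : F) (ω : J → F) (h : ω ≠ 0) : Good x0 v z c l th (x0 r * L.vv ω) := by
  classical
  by_cases h1 : ω (0, true) ≠ 0
  · exact L.good_B r _ ω h1 le_rfl
  · rw [not_not] at h1
    obtain ⟨j, hj⟩ : ∃ j, ω j ≠ 0 := by
      by_contra h2
      push Not at h2
      exact h (funext h2)
    by_cases h2 : j.1 = 0
    · -- `j = (0, false)`
      have hj' : j = (0, false) := by
        obtain ⟨j1, j2⟩ := j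
        simp only at h2
        subst h2
        cases j2
        · rfl
        · exact absurd h1 hj
      subst hj'
      have hp : c (0, true) 1 ∈ Ps x0 v z c l th := c_mem _ _
      refine Good.of_conj hp ?_
      rw [L.conj_x0 hp, L.conj_c, ← mul_assoc, ← L.x0_add]
      refine L.good_B _ _ _ ?_ le_rfl
      rw [Pi.add_apply, Pi.single_eq_same, h1, zero_add, one_pow, one_mul]
      exact hj
    · have hne : (ng j).1 ≠ ((0, true) : J).1 := h2
      have hp : l (ng j) (0, true) 1 ∈ Ps x0 v z c l th := l_mem hne _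
      refine Good.of_conj hp ?_
      rw [L.conj_x0 hp, L.conj_l hne, ng_ng]
      refine L.good_B _ _ _ ?_ le_rfl
      have h3 : ((0, true) : J) ≠ ng j := fun h => hne (by rw [← h])
      rw [Pi.add_apply, Pi.add_apply, Pi.single_eq_same, Pi.single_eq_of_ne h3, add_zero, h1, zero_add, one_mul]
      exact hj

/-- **`P` is transitive on `V/X`.** -/
theorem transV [Finite F] {g : G} (hg : g ∈ Vs x0 v) (hX : g ∉ Xs x0) :
    ∃ p ∈ Ps x0 v z c l th, ∃ r α, α ≠ 0 ∧ p * g * p⁻¹ = x0 r * v (0, true) α := by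
  obtain ⟨r, ω, h⟩ := L.exists_coV hg
  rw [h.eq]
  refine L.good_A r ω fun h0 => hX ?_
  rw [h.eq, h0, L.vv_zero, mul_one]
  exact L.x0_mem r

/-- **`[g, Q] = X` for `g ∈ Q ∖ V`.** -/
theorem mix {g x : G} (hg : g ∈ Qs x0 v z) (hV : g ∉ Vs x0 v) (hx : x ∈ Xs x0) :
    ∃ q ∈ Qs x0 v z, q * g * q⁻¹ = g * x := by
  obtain ⟨a, ha⟩ := L.coQ_of_mem hg
  obtain ⟨b, rfl⟩ := L.mem_X.1 hx
  have h0 : a ≠ 0 := by
    rintro rfl
    exact hV (L.mem_V_of_coQ hg ha)
  obtain ⟨i, hi⟩ : ∃ i, a i ≠ 0 := by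
    by_contra h2
    push Not at h2
    exact h0 (funext h2)
  have h1 := ha (op i) (b * (a i)⁻¹)
  beta_reduce at h1
  rw [op_op, mul_comm b, mul_inv_cancel_left₀ hi] at h1
  refine ⟨z (op i) ((a i)⁻¹ * b), z_mem _ _, ?_⟩
  have h2 := L.XP (c := c) (l := l) (th := th) (L.x0_mem b) (Q_le_P hg)
  have h3 := L.x0_z b (op i) ((a i)⁻¹ * b)
  have h4 : g * z (op i) ((a i)⁻¹ * b) = x0 b * z (op i) ((a i)⁻¹ * b) * g := by
    rw [← h1]; group
  have h5 : x0 b * x0 b = 1 := self_of_add L.two L.x0_add b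
  calc z (op i) ((a i)⁻¹ * b) * g * (z (op i) ((a i)⁻¹ * b))⁻¹
      = (x0 b * x0 b) * z (op i) ((a i)⁻¹ * b) * g * (z (op i) ((a i)⁻¹ * b))⁻¹ := by rw [h5, one_mul]
    _ = x0 b * (x0 b * z (op i) ((a i)⁻¹ * b) * g) * (z (op i) ((a i)⁻¹ * b))⁻¹ := by group
    _ = x0 b * (g * z (op i) ((a i)⁻¹ * b)) * (z (op i) ((a i)⁻¹ * b))⁻¹ := by rw [h4]
    _ = x0 b * g := by group
    _ = g * x0 b := h2

/-- `[Q, Q] = X` -/
theorem comm_eq : ⁅Qs x0 v z, Qs x0 v z⁆ = Xs x0 := by
  refine le_antisymm ?_ L.X_le_comm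
  rw [commutator_le]
  intro a ha b hb
  rw [commutatorElement_def]
  exact L.QQ ha hb

/-- `U = Z(Q)` -/
theorem V_eq : Vs x0 v = Qs x0 v z ⊓ centralizer (Qs x0 v z : Set G) := by
  apply le_antisymm
  · intro y hy
    exact ⟨V_le_Q hy, mem_centralizer_iff.2 fun q hq => (L.VQ hy hq).symm⟩
  · rintro y ⟨h1, h2⟩
    exact L.ZQ h1 fun q hq => (mem_centralizer_iff.1 h2 q hq).symm

/-- the field `irr` -/
theorem irr_eq {C T : Subgroup G} (hC : Ps x0 v z c l th ≤ C) (hT : T ≤ Qs x0 v z)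
    (hn : C ≤ normalizer (T : Set G)) (h : Qs x0 v z ⊓ centralizer (T : Set G) ≤ T) : T = Qs x0 v z := by
  have h1 : Vs x0 v ≤ T := by
    refine le_trans (fun y hy => ?_) h
    exact ⟨V_le_Q hy, mem_centralizer_iff.2 fun q hq => (L.VQ hy (hT hq)).symm⟩
  rcases L.irrQ h1 hT (fun p hp r hr => (mem_normalizer_iff.1 (hn (hC hp)) r).1 hr) with h2 | h2
  · exfalso
    obtain ⟨q, hq, hq'⟩ := L.neQ
    refine hq' ?_
    rw [← h2]
    refine h ⟨hq, mem_centralizer_iff.2 fun y hy => ?_⟩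
    rw [h2] at hy
    exact L.VQ hy hq
  · exact h2

end Cfsg.Agent.Omega.All.F4K.LocA
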