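import Cfsg.Agent.Omega.All.F4K.Chart
import Cfsg.Agent.Omega.All.F4K.Typ

/-!
# `F₄(q)`, both root lengths: the fields `irr`, `comm`, `typ`, `mix` of `FFourDat` (helper866)

`C : ChartA E T`, `rt` the inverse Frobenius.  `s0 = [2,3,2,1]` the highest short root, `rho = [2,4,3,2]` the highest
root.  `SE E A` is the subgroup generated by the root elements of the roots in `A`:
`X_s = SE {s0}`, `U_s = SE (AU s0)`, `Q_s = SE (AQ s0)` and the same for `rho`.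
`P` stands for a subgroup which contains the root elements `E a u`, `0 ≤ B s a`, and the torus elements centralising `X`
(`ParS`, `ParL`).
-/

set_option autoImplicit false
set_option linter.unusedSectionVars false
set_option Elab.async false

namespace Cfsg.Agent.Omega.All.F4K

open Subgroup
open Cfsg.Agent.OddHalf.D7F4 Cfsg.Agent.OddHalf.D7F4.Model
open Cfsg.Agent.OddHalf.D7F4Ex (J Sp ng fl op s0 sg rc rv rl rz chd consH oneH chd_eq chd_consH chd_oneH s0_mem rc_mem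
  rv_mem rz_mem rl_mem dd d_s0 dualE dualH dualE_short dualE_long t_c t_l)
open Cfsg.Agent.OddHalf.D7F4Ex.Loc (gV Xs Vs Qs Ps)
open scoped commutatorElement

/-- the highest root -/
def rho : Fin 4 → ℤ := ![2, 4, 3, 2]

/-- the roots of `U` -/
def AU (s : Fin 4 → ℤ) : Set (Fin 4 → ℤ) := {a | a = s ∨ (B a a ≠ B s s ∧ 0 < B s a)}

/-- the roots of `Q` -/
def AQ (s : Fin 4 → ℤ) : Set (Fin 4 → ℤ) := {a | 0 < B s a}

/-- the roots of `C(X)` -/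
def AP (s : Fin 4 → ℤ) : Set (Fin 4 → ℤ) := {a | 0 ≤ B s a}

/-! ### Tables -/

theorem rho_mem : rho ∈ rts := by decide +kernel
theorem norm_rho : B rho rho = 4 := by decide +kernel
theorem norm_s0 : B s0 s0 = 2 := by decide +kernel
theorem B_s0_rho : B s0 rho = 2 := by decide +kernel
theorem rho_eq : rv (0, true) = rho := by decide +kernel
theorem dual_s0 : dual s0 = rho := by decide +kernel
theorem dual_rho : dual rho = s0 := by decide +kernel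
theorem norm_rv : ∀ j, B (rv j) (rv j) = 4 ∧ 0 < B s0 (rv j) := by decide +kernel
theorem norm_rz : ∀ i, B (rz i) (rz i) = 2 ∧ 0 < B s0 (rz i) := by decide +kernel
theorem norm_rc : ∀ j, B (rc j) (rc j) = 2 := by decide +kernel
theorem norm_rl : ∀ j k : J, j.1 ≠ k.1 → B (rl j k) (rl j k) = 4 := by decide +kernel
theorem all_rv : ∀ a ∈ rts, B a a = 4 → 0 < B s0 a → ∃ j, a = rv j := by decide +kernel
theorem all_Q : ∀ a ∈ rts, 0 < B s0 a → a = s0 ∨ (∃ j, a = rv j) ∨ ∃ i, a = rz i := by decide +kernel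
theorem d_rv : ∀ j, dual (rv j) ∈ rts ∧ B (dual (rv j)) (dual (rv j)) = 2 ∧ 0 < B rho (dual (rv j)) := by
  decide +kernel
theorem d_rz' : ∀ i, dual (rz i) ∈ rts ∧ B (dual (rz i)) (dual (rz i)) = 4 ∧ 0 < B rho (dual (rz i)) := by
  decide +kernel
theorem d_rc' : ∀ j, dual (rc j) ∈ rts ∧ 0 ≤ B rho (dual (rc j)) := by decide +kernel
theorem d_rl' : ∀ j k : J, j.1 ≠ k.1 → dual (rl j k) ∈ rts ∧ 0 ≤ B rho (dual (rl j k)) := by decide +kernel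
theorem all_rv_l : ∀ a ∈ rts, B a a = 2 → 0 < B rho a → ∃ j, a = dual (rv j) := by decide +kernel
theorem all_Q_l : ∀ a ∈ rts, 0 < B rho a → a = rho ∨ (∃ j, a = dual (rv j)) ∨ ∃ i, a = dual (rz i) := by
  decide +kernel
theorem d_rho : dd rho = ![2, 2, 0, 0] := by decide +kernel

variable {F : Type*} [Field F] {G : Type*} [Group G]

/-- the subgroup generated by the root elements of the roots in `A` -/
def SE (E : (Fin 4 → ℤ) → F → G) (A : Set (Fin 4 → ℤ)) : Subgroup G :=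
  closure {g | ∃ a ∈ rts, a ∈ A ∧ ∃ u, g = E a u}

theorem E_mem (E : (Fin 4 → ℤ) → F → G) {A : Set (Fin 4 → ℤ)} {a : Fin 4 → ℤ} (ha : a ∈ rts) (hA : a ∈ A) (u : F) :
    E a u ∈ SE E A := subset_closure ⟨a, ha, hA, u, rfl⟩

theorem SE_le (E : (Fin 4 → ℤ) → F → G) {A : Set (Fin 4 → ℤ)} {H : Subgroup G}
    (h : ∀ a ∈ rts, a ∈ A → ∀ u, E a u ∈ H) : SE E A ≤ H := by
  rw [SE, closure_le]
  rintro _ ⟨a, ha, hA, u, rfl⟩
  exact h a ha hA u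

theorem SE_mono (E : (Fin 4 → ℤ) → F → G) {A A' : Set (Fin 4 → ℤ)} (h : A ⊆ A') : SE E A ≤ SE E A' :=
  SE_le E fun _ ha hA u => E_mem E ha (h hA) u

variable {E : (Fin 4 → ℤ) → F → G} {T : (Fin 4 → Fˣ) →* G}

namespace ChartA

/-! ### The short side -/

section short

variable (C : ChartA E T)

theorem Xs_eq : Xs (E s0) = SE E {s0} := by
  apply le_antisymm
  · rw [Xs, closure_le]
    rintro _ ⟨u, rfl⟩
    exact E_mem E s0_mem (Set.mem_singleton _) u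
  · refine SE_le E fun a _ hA u => ?_
    rw [Set.mem_singleton_iff.1 hA]
    exact subset_closure ⟨u, rfl⟩

theorem Vs_eq : Vs (E s0) (fun j => E (rv j)) = SE E (AU s0) := by
  apply le_antisymm
  · rw [Vs, closure_le]
    rintro _ (⟨u, rfl⟩ | ⟨j, u, rfl⟩)
    · exact E_mem E s0_mem (Or.inl rfl) u
    · exact E_mem E (rv_mem j) (Or.inr ⟨by rw [(norm_rv j).1, norm_s0]; norm_num, (norm_rv j).2⟩) u
  · refine SE_le E fun a ha hA u => ?_
    rcases hA with rfl | ⟨h1, h2⟩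
    · exact subset_closure (Or.inl ⟨u, rfl⟩)
    · obtain ⟨j, rfl⟩ := all_rv a ha ((Model.norm a ha).resolve_left (by rwa [norm_s0] at h1)) h2
      exact subset_closure (Or.inr ⟨j, u, rfl⟩)

theorem Qs_eq : Qs (E s0) (fun j => E (rv j)) (fun i => E (rz i)) = SE E (AQ s0) := by
  apply le_antisymm
  · rw [Qs, closure_le]
    rintro _ ((⟨u, rfl⟩ | ⟨j, u, rfl⟩) | ⟨i, u, rfl⟩)
    · exact E_mem E s0_mem (show 0 < B s0 s0 by rw [norm_s0]; norm_num) u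
    · exact E_mem E (rv_mem j) (norm_rv j).2 u
    · exact E_mem E (rz_mem i) (norm_rz i).2 u
  · refine SE_le E fun a ha hA u => ?_
    rcases all_Q a ha hA with rfl | ⟨j, rfl⟩ | ⟨i, rfl⟩
    · exact subset_closure (Or.inl (Or.inl ⟨u, rfl⟩))
    · exact subset_closure (Or.inl (Or.inr ⟨j, u, rfl⟩))
    · exact subset_closure (Or.inr ⟨i, u, rfl⟩)

/-- `P` contains `C_K(X_s)` -/
structure ParS (E : (Fin 4 → ℤ) → F → G) (T : (Fin 4 → Fˣ) →* G) (P : Subgroup G) : Prop where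
  E_mem : ∀ a ∈ rts, 0 ≤ B s0 a → ∀ u, E a u ∈ P
  T_mem : ∀ ν, chd ν s0 = 1 → T ν ∈ P

theorem chd_consH_s0 (ν : Fin 3 → Fˣ) : chd (consH ν) s0 = 1 := by
  rw [chd_consH, d_s0]
  show ν 0 ^ (0 : ℤ) * ν 1 ^ (0 : ℤ) * ν 2 ^ (0 : ℤ) = 1
  rw [zpow_zero, zpow_zero, zpow_zero, mul_one, mul_one]

theorem ParS.le {P : Subgroup G} (h : ParS E T P) : Ps (E s0) (fun j => E (rv j)) (fun i => E (rz i))
    (fun j => E (rc j)) (fun j k => E (rl j k)) (T.comp consH) ≤ P := by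
  rw [Ps, closure_le]
  rintro _ ((⟨u, rfl⟩ | ⟨j, u, rfl⟩) | ⟨i, u, rfl⟩ | ⟨j, u, rfl⟩ | ⟨j, k, u, hjk, rfl⟩ | ⟨ν, rfl⟩)
  · exact h.E_mem _ s0_mem (by rw [norm_s0]; norm_num) u
  · exact h.E_mem _ (rv_mem j) (norm_rv j).2.le u
  · exact h.E_mem _ (rz_mem i) (norm_rz i).2.le u
  · exact h.E_mem _ (rc_mem j) (t_c j) u
  · exact h.E_mem _ (rl_mem j k hjk) (t_l j k hjk) u
  · exact h.T_mem _ (chd_consH_s0 ν)

include C

theorem comm_s : ⁅SE E (AQ s0), SE E (AQ s0)⁆ = SE E {s0} := by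
  rw [← Xs_eq, ← Qs_eq]
  exact C.loc.comm_eq

theorem V_eq_s : SE E (AU s0) = SE E (AQ s0) ⊓ centralizer (SE E (AQ s0) : Set G) := by
  rw [← Vs_eq, ← Qs_eq]
  exact C.loc.V_eq

theorem irr_s {P : Subgroup G} (hP : ParS E T P) : ∀ R : Subgroup G, R ≤ SE E (AQ s0) → P ≤ normalizer (R : Set G) →
    SE E (AQ s0) ⊓ centralizer (R : Set G) ≤ R → R = SE E (AQ s0) := by
  rw [← Qs_eq]
  intro R h1 h2 h3
  exact C.loc.irr_eq hP.le h1 h2 h3

/-- `[g, Q_s] = X_s` for `g ∈ Q_s ∖ U_s` -/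
theorem mix_s : ∀ g ∈ SE E (AQ s0), g ∉ SE E (AU s0) → ∀ x ∈ SE E ({s0} : Set (Fin 4 → ℤ)),
    ∃ q ∈ SE E (AQ s0), q * g * q⁻¹ = g * x := by
  rw [← Xs_eq, ← Qs_eq, ← Vs_eq]
  intro g hg hV x hx
  exact C.loc.mix hg hV hx

/-- `C_K(X_s)` is transitive on `U_s/X_s` -/
theorem transU_s [Finite F] {P : Subgroup G} (hP : ParS E T P) : ∀ g ∈ SE E (AU s0), g ∉ SE E ({s0} : Set (Fin 4 → ℤ)) →
    ∃ p ∈ P, ∃ r α, α ≠ 0 ∧ p * g * p⁻¹ = E s0 r * E rho α := by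
  rw [← Xs_eq, ← Vs_eq]
  intro g hg hX
  obtain ⟨p, hp, r, α, h1, h2⟩ := C.loc.transV hg hX
  refine ⟨p, hP.le hp, r, α, h1, ?_⟩
  rw [h2]
  rw [rho_eq]

end short

/-! ### The long side -/

section long

variable (rt : F ≃+* F)

theorem Xl_eq : Xs (dualE rt E s0) = SE E {rho} := by
  have e : ∀ u, dualE rt E s0 u = E rho u := fun u => by rw [dualE_short rt norm_s0, dual_s0]
  apply le_antisymm
  · rw [Xs, closure_le]
    rintro _ ⟨u, rfl⟩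
    rw [e]
    exact E_mem E rho_mem (Set.mem_singleton _) u
  · refine SE_le E fun a _ hA u => ?_
    rw [Set.mem_singleton_iff.1 hA]
    exact subset_closure ⟨u, e u⟩

theorem Vl_eq : Vs (dualE rt E s0) (fun j => dualE rt E (rv j)) = SE E (AU rho) := by
  have e : ∀ u, dualE rt E s0 u = E rho u := fun u => by rw [dualE_short rt norm_s0, dual_s0]
  have e1 : ∀ j u, dualE rt E (rv j) u = E (Model.dual (rv j)) (rt u) := fun j u => dualE_long rt (norm_rv j).1 u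
  apply le_antisymm
  · rw [Vs, closure_le]
    rintro _ (⟨u, rfl⟩ | ⟨j, u, rfl⟩)
    · rw [e]; exact E_mem E rho_mem (Or.inl rfl) u
    · beta_reduce
      rw [e1]
      exact E_mem E (d_rv j).1 (Or.inr ⟨by rw [(d_rv j).2.1, norm_rho]; norm_num, (d_rv j).2.2⟩) _
  · refine SE_le E fun a ha hA u => ?_
    rcases hA with rfl | ⟨h1, h2⟩
    · exact subset_closure (Or.inl ⟨u, (e u).symm⟩)
    · obtain ⟨j, rfl⟩ := all_rv_l a ha ((Model.norm a ha).resolve_right (by rwa [norm_rho] at h1)) h2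
      refine subset_closure (Or.inr ⟨j, rt.symm u, ?_⟩)
      beta_reduce
      rw [e1, RingEquiv.apply_symm_apply]

theorem Ql_eq : Qs (dualE rt E s0) (fun j => dualE rt E (rv j)) (fun i => dualE rt E (rz i)) = SE E (AQ rho) := by
  have e : ∀ u, dualE rt E s0 u = E rho u := fun u => by rw [dualE_short rt norm_s0, dual_s0]
  have e1 : ∀ j u, dualE rt E (rv j) u = E (Model.dual (rv j)) (rt u) := fun j u => dualE_long rt (norm_rv j).1 u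
  have e2 : ∀ i u, dualE rt E (rz i) u = E (Model.dual (rz i)) u := fun i u => dualE_short rt (norm_rz i).1 u
  apply le_antisymm
  · rw [Qs, closure_le]
    rintro _ ((⟨u, rfl⟩ | ⟨j, u, rfl⟩) | ⟨i, u, rfl⟩)
    · rw [e]; exact E_mem E rho_mem (show 0 < B rho rho by rw [norm_rho]; norm_num) u
    · beta_reduce
      rw [e1]; exact E_mem E (d_rv j).1 (d_rv j).2.2 _
    · rw [e2]; exact E_mem E (d_rz' i).1 (d_rz' i).2.2 u
  · refine SE_le E fun a ha hA u => ?_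
    rcases all_Q_l a ha hA with rfl | ⟨j, rfl⟩ | ⟨i, rfl⟩
    · exact subset_closure (Or.inl (Or.inl ⟨u, (e u).symm⟩))
    · refine subset_closure (Or.inl (Or.inr ⟨j, rt.symm u, ?_⟩))
      beta_reduce
      rw [e1, RingEquiv.apply_symm_apply]
    · exact subset_closure (Or.inr ⟨i, u, (e2 i u).symm⟩)

/-- `P` contains `C_K(X_l)` -/
structure ParL (E : (Fin 4 → ℤ) → F → G) (T : (Fin 4 → Fˣ) →* G) (P : Subgroup G) : Prop where
  E_mem : ∀ a ∈ rts, 0 ≤ B rho a → ∀ u, E a u ∈ P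
  T_mem : ∀ ν, chd ν rho = 1 → T ν ∈ P

variable (hrt : ∀ u, rt u ^ 2 = u)

include hrt

theorem chd_dual_consH (ν : Fin 3 → Fˣ) : chd (dualH rt (consH ν)) rho = 1 := by
  have h1 := Cfsg.Agent.OddHalf.D7F4Ex.chd_dual_short rt hrt (consH ν) s0_mem norm_s0
  rw [dual_s0, chd_consH_s0] at h1
  exact h1

theorem ParL.le {P : Subgroup G} (h : ParL E T P) : Ps (dualE rt E s0) (fun j => dualE rt E (rv j))
    (fun i => dualE rt E (rz i)) (fun j => dualE rt E (rc j)) (fun j k => dualE rt E (rl j k))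
      ((T.comp (dualH rt)).comp consH) ≤ P := by
  have e : ∀ u, dualE rt E s0 u = E rho u := fun u => by rw [dualE_short rt norm_s0, dual_s0]
  rw [Ps, closure_le]
  rintro _ ((⟨u, rfl⟩ | ⟨j, u, rfl⟩) | ⟨i, u, rfl⟩ | ⟨j, u, rfl⟩ | ⟨j, k, u, hjk, rfl⟩ | ⟨ν, rfl⟩)
  · rw [e]; exact h.E_mem _ rho_mem (by rw [norm_rho]; norm_num) u
  · beta_reduce
    rw [dualE_long rt (norm_rv j).1]; exact h.E_mem _ (d_rv j).1 (d_rv j).2.2.le _
  · rw [dualE_short rt (norm_rz i).1]; exact h.E_mem _ (d_rz' i).1 (d_rz' i).2.2.le _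
  · rw [dualE_short rt (norm_rc j)]; exact h.E_mem _ (d_rc' j).1 (d_rc' j).2 _
  · rw [dualE_long rt (norm_rl j k hjk)]; exact h.E_mem _ (d_rl' j k hjk).1 (d_rl' j k hjk).2 _
  · exact h.T_mem _ (chd_dual_consH rt hrt ν)

variable (C : ChartA E T)

include C

theorem comm_l : ⁅SE E (AQ rho), SE E (AQ rho)⁆ = SE E {rho} := by
  rw [← Xl_eq rt, ← Ql_eq rt]
  exact (C.dual rt hrt).loc.comm_eq

theorem V_eq_l : SE E (AU rho) = SE E (AQ rho) ⊓ centralizer (SE E (AQ rho) : Set G) := by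
  rw [← Vl_eq rt, ← Ql_eq rt]
  exact (C.dual rt hrt).loc.V_eq

theorem irr_l {P : Subgroup G} (hP : ParL E T P) : ∀ R : Subgroup G, R ≤ SE E (AQ rho) → P ≤ normalizer (R : Set G) →
    SE E (AQ rho) ⊓ centralizer (R : Set G) ≤ R → R = SE E (AQ rho) := by
  rw [← Ql_eq rt]
  intro R h1 h2 h3
  exact (C.dual rt hrt).loc.irr_eq (hP.le rt hrt) h1 h2 h3

/-- `[g, Q_l] = X_l` for `g ∈ Q_l ∖ U_l` -/
theorem mix_l : ∀ g ∈ SE E (AQ rho), g ∉ SE E (AU rho) → ∀ x ∈ SE E ({rho} : Set (Fin 4 → ℤ)),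
    ∃ q ∈ SE E (AQ rho), q * g * q⁻¹ = g * x := by
  rw [← Xl_eq rt, ← Ql_eq rt, ← Vl_eq rt]
  intro g hg hV x hx
  exact (C.dual rt hrt).loc.mix hg hV hx

/-- `C_K(X_l)` is transitive on `U_l/X_l` -/
theorem transU_l [Finite F] {P : Subgroup G} (hP : ParL E T P) : ∀ g ∈ SE E (AU rho),
    g ∉ SE E ({rho} : Set (Fin 4 → ℤ)) → ∃ p ∈ P, ∃ r α, α ≠ 0 ∧ p * g * p⁻¹ = E s0 α * E rho r := by
  rw [← Xl_eq rt, ← Vl_eq rt]
  intro g hg hX
  obtain ⟨p, hp, r, α, h1, h2⟩ := (C.dual rt hrt).loc.transV hg hX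
  refine ⟨p, hP.le rt hrt hp, r, rt α, fun h => h1 ((map_eq_zero_iff rt rt.injective).1 h), ?_⟩
  rw [h2]
  rw [rho_eq, dualE_short rt norm_s0, dualE_long rt norm_rho, dual_s0, dual_rho]
  exact C.c0 _ rho_mem _ s0_mem (by rw [Model.B_symm, B_s0_rho]; norm_num) _ _

end long

/-! ### The torus and the types -/

section types

variable (C : ChartA E T)

include C

theorem mem_SE_singleton {a : Fin 4 → ℤ} (ha : a ∈ rts) {x : G} : x ∈ SE E ({a} : Set (Fin 4 → ℤ)) ↔ ∃ u, x = E a u := by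
  constructor
  · intro h
    unfold SE at h
    induction h using closure_induction with
    | mem x hx =>
      obtain ⟨b, -, hb, u, rfl⟩ := hx
      rw [Set.mem_singleton_iff.1 hb]
      exact ⟨u, rfl⟩
    | one => exact ⟨0, (C.zero ha).symm⟩
    | mul x y _ _ hx hy =>
      obtain ⟨u, rfl⟩ := hx
      obtain ⟨w, rfl⟩ := hy
      exact ⟨u + w, (C.add a ha u w).symm⟩
    | inv x _ hx =>
      obtain ⟨u, rfl⟩ := hx
      exact ⟨u, C.inv ha u⟩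
  · rintro ⟨u, rfl⟩
    exact E_mem E ha (Set.mem_singleton _) u

/-- the torus is transitive on the pairs `(x, y) ∈ X_s# × X_l#` -/
theorem torus [Finite F] {u u' w w' : F} (hu : u ≠ 0) (hu' : u' ≠ 0) (hw : w ≠ 0) (hw' : w' ≠ 0) :
    ∃ ν, T ν * E s0 u * (T ν)⁻¹ = E s0 u' ∧ T ν * E rho w * (T ν)⁻¹ = E rho w' := by
  obtain ⟨a, ha⟩ := C.loc.exists_sqrt_unit (Units.mk0 u' hu' * (Units.mk0 u hu)⁻¹)
  obtain ⟨b, hb⟩ := C.loc.exists_sqrt_unit (Units.mk0 w' hw' * (Units.mk0 w hw)⁻¹ * (a ^ 2)⁻¹)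
  refine ⟨![a, b, 1, 1], ?_, ?_⟩
  · rw [C.tor _ s0_mem, chd_eq, d_s0]
    have e : ((![a, b, 1, 1] : Fin 4 → Fˣ) 0 ^ (![2, 0, 0, 0] : Fin 4 → ℤ) 0 *
        (![a, b, 1, 1] : Fin 4 → Fˣ) 1 ^ (![2, 0, 0, 0] : Fin 4 → ℤ) 1 *
        (![a, b, 1, 1] : Fin 4 → Fˣ) 2 ^ (![2, 0, 0, 0] : Fin 4 → ℤ) 2 *
        (![a, b, 1, 1] : Fin 4 → Fˣ) 3 ^ (![2, 0, 0, 0] : Fin 4 → ℤ) 3) = a ^ 2 := by
      simp
    rw [e, ha, Units.val_mul, Units.val_inv_eq_inv_val, Units.val_mk0, Units.val_mk0, inv_mul_cancel_right₀ hu]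
  · rw [C.tor _ rho_mem, chd_eq, d_rho]
    have e : ((![a, b, 1, 1] : Fin 4 → Fˣ) 0 ^ (![2, 2, 0, 0] : Fin 4 → ℤ) 0 *
        (![a, b, 1, 1] : Fin 4 → Fˣ) 1 ^ (![2, 2, 0, 0] : Fin 4 → ℤ) 1 *
        (![a, b, 1, 1] : Fin 4 → Fˣ) 2 ^ (![2, 2, 0, 0] : Fin 4 → ℤ) 2 *
        (![a, b, 1, 1] : Fin 4 → Fˣ) 3 ^ (![2, 2, 0, 0] : Fin 4 → ℤ) 3) = a ^ 2 * b ^ 2 := by
      simp
    rw [e, hb, mul_comm (a ^ 2), inv_mul_cancel_right, Units.val_mul, Units.val_inv_eq_inv_val, Units.val_mk0,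
      Units.val_mk0, inv_mul_cancel_right₀ hw]

/-- the field `trans` on `X_s` -/
theorem trans_s [Finite F] : ∀ x ∈ SE E ({s0} : Set (Fin 4 → ℤ)), ∀ x' ∈ SE E ({s0} : Set (Fin 4 → ℤ)), x ≠ 1 → x' ≠ 1 →
    ∃ ν, T ν * x * (T ν)⁻¹ = x' := by
  intro x hx x' hx' h1 h1'
  obtain ⟨u, rfl⟩ := (C.mem_SE_singleton s0_mem).1 hx
  obtain ⟨u', rfl⟩ := (C.mem_SE_singleton s0_mem).1 hx'
  have hu : u ≠ 0 := fun h => h1 (by rw [h, C.zero s0_mem])
  have hu' : u' ≠ 0 := fun h => h1' (by rw [h, C.zero s0_mem])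
  obtain ⟨ν, h, -⟩ := C.torus hu hu' one_ne_zero one_ne_zero
  exact ⟨ν, h⟩

/-- the field `trans` on `X_l` -/
theorem trans_l [Finite F] : ∀ x ∈ SE E ({rho} : Set (Fin 4 → ℤ)), ∀ x' ∈ SE E ({rho} : Set (Fin 4 → ℤ)), x ≠ 1 →
    x' ≠ 1 → ∃ ν, T ν * x * (T ν)⁻¹ = x' := by
  intro x hx x' hx' h1 h1'
  obtain ⟨u, rfl⟩ := (C.mem_SE_singleton rho_mem).1 hx
  obtain ⟨u', rfl⟩ := (C.mem_SE_singleton rho_mem).1 hx'
  have hu : u ≠ 0 := fun h => h1 (by rw [h, C.zero rho_mem])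
  have hu' : u' ≠ 0 := fun h => h1' (by rw [h, C.zero rho_mem])
  obtain ⟨ν, -, h⟩ := C.torus one_ne_zero one_ne_zero hu hu'
  exact ⟨ν, h⟩

/-- an element `x_s(u) x_l(w)` is conjugate under the torus into `Z`, if `Z` meets `X_s`, `X_l` -/
theorem typ_aux [Finite F] {Z Y : Subgroup G} (hY : ∀ ν, T ν ∈ Y) {zs zl : G} (hs : zs ∈ SE E ({s0} : Set (Fin 4 → ℤ)))
    (hsZ : zs ∈ Z) (hs1 : zs ≠ 1) (hl : zl ∈ SE E ({rho} : Set (Fin 4 → ℤ))) (hlZ : zl ∈ Z) (hl1 : zl ≠ 1) (u w : F) :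
    ∃ y ∈ Y, y * (E s0 u * E rho w) * y⁻¹ ∈ Z := by
  obtain ⟨a, rfl⟩ := (C.mem_SE_singleton s0_mem).1 hs
  obtain ⟨b, rfl⟩ := (C.mem_SE_singleton rho_mem).1 hl
  have ha : a ≠ 0 := fun h => hs1 (by rw [h, C.zero s0_mem])
  have hb : b ≠ 0 := fun h => hl1 (by rw [h, C.zero rho_mem])
  by_cases hu : u = 0
  · by_cases hw : w = 0
    · refine ⟨1, one_mem _, ?_⟩
      rw [hu, hw, C.zero s0_mem, C.zero rho_mem, mul_one, mul_one, inv_one, mul_one]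
      exact one_mem _
    · obtain ⟨ν, -, h⟩ := C.torus (u := 1) (u' := 1) one_ne_zero one_ne_zero hw hb
      refine ⟨T ν, hY ν, ?_⟩
      rw [hu, C.zero s0_mem, one_mul, h]
      exact hlZ
  · by_cases hw : w = 0
    · obtain ⟨ν, h, -⟩ := C.torus (w := 1) (w' := 1) hu ha one_ne_zero one_ne_zero
      refine ⟨T ν, hY ν, ?_⟩
      rw [hw, C.zero rho_mem, mul_one, h]
      exact hsZ
    · obtain ⟨ν, h, h'⟩ := C.torus hu ha hw hb
      refine ⟨T ν, hY ν, ?_⟩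
      have e : T ν * (E s0 u * E rho w) * (T ν)⁻¹ = (T ν * E s0 u * (T ν)⁻¹) * (T ν * E rho w * (T ν)⁻¹) := by group
      rw [e, h, h']
      exact mul_mem hsZ hlZ

/-- **the field `typ`**, short side -/
theorem typ_s [Finite F] {Z Y P : Subgroup G} (hP : ParS E T P) (hPY : P ≤ Y) (hY : ∀ ν, T ν ∈ Y) {zs zl : G}
    (hs : zs ∈ SE E ({s0} : Set (Fin 4 → ℤ))) (hsZ : zs ∈ Z) (hs1 : zs ≠ 1)
    (hl : zl ∈ SE E ({rho} : Set (Fin 4 → ℤ))) (hlZ : zl ∈ Z) (hl1 : zl ≠ 1) :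
    ∀ u ∈ SE E (AU s0), ∃ y ∈ Y, y * u * y⁻¹ ∈ Z := by
  intro g hg
  by_cases hX : g ∈ SE E ({s0} : Set (Fin 4 → ℤ))
  · obtain ⟨u, rfl⟩ := (C.mem_SE_singleton s0_mem).1 hX
    have := C.typ_aux hY hs hsZ hs1 hl hlZ hl1 u 0
    rwa [C.zero rho_mem, mul_one] at this
  · obtain ⟨p, hp, r, α, -, h⟩ := C.transU_s hP g hg hX
    obtain ⟨y, hy, h'⟩ := C.typ_aux hY hs hsZ hs1 hl hlZ hl1 r α
    refine ⟨y * p, mul_mem hy (hPY hp), ?_⟩
    have e : y * p * g * (y * p)⁻¹ = y * (p * g * p⁻¹) * y⁻¹ := by group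
    rw [e, h]; exact h'

/-- **the field `typ`**, long side -/
theorem typ_l [Finite F] (rt : F ≃+* F) (hrt : ∀ u, rt u ^ 2 = u) {Z Y P : Subgroup G} (hP : ParL E T P) (hPY : P ≤ Y)
    (hY : ∀ ν, T ν ∈ Y) {zs zl : G} (hs : zs ∈ SE E ({s0} : Set (Fin 4 → ℤ))) (hsZ : zs ∈ Z) (hs1 : zs ≠ 1)
    (hl : zl ∈ SE E ({rho} : Set (Fin 4 → ℤ))) (hlZ : zl ∈ Z) (hl1 : zl ≠ 1) :
    ∀ u ∈ SE E (AU rho), ∃ y ∈ Y, y * u * y⁻¹ ∈ Z := by
  intro g hg
  by_cases hX : g ∈ SE E ({rho} : Set (Fin 4 → ℤ))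
  · obtain ⟨u, rfl⟩ := (C.mem_SE_singleton rho_mem).1 hX
    have := C.typ_aux hY hs hsZ hs1 hl hlZ hl1 0 u
    rwa [C.zero s0_mem, one_mul] at this
  · obtain ⟨p, hp, r, α, -, h⟩ := transU_l rt hrt C hP g hg hX
    obtain ⟨y, hy, h'⟩ := C.typ_aux hY hs hsZ hs1 hl hlZ hl1 α r
    refine ⟨y * p, mul_mem hy (hPY hp), ?_⟩
    have e : y * p * g * (y * p)⁻¹ = y * (p * g * p⁻¹) * y⁻¹ := by group
    rw [e, h]; exact h'

end types

end ChartA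

end Cfsg.Agent.Omega.All.F4K
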