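import Cfsg.Agent.Omega.All.F4K.Irr
import Cfsg.Agent.KFacts.F4Chart

/-!
# The chart of `F₄(q)`, all even `q` (helper866)

`ChartA` = `Chart` of helper250's `D7F4Ex/Chart.lean` without the field `big`; `ChartA.loc`, `ChartA.dual`, `chart_id`,
`chart_comp`, `chart`.
-/

set_option autoImplicit false
set_option linter.unusedSectionVars false
set_option Elab.async false

namespace Cfsg.Agent.Omega.All.F4K

open Cfsg.Agent.OddHalf.D7F4 Cfsg.Agent.OddHalf.D7F4.Model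
open Cfsg.Agent.OddHalf.D7F4Ex (J Sp ng fl op thd wt ws ng_ng ng_ne op_op fl_fl fl_self fl_ne dd sc s0 sg rc rv rl rz dd_add
  rfl' chd nE s0_mem rc_mem rv_mem rz_mem rl_mem rv_ne t_v t_z t_c t_l t_vv t_vz t_zz t_zop t_cv t_cv' t_cz t_cz' t_lv t_lv'
  t_lz t_lz' t_lc d_s0 d_rc d_rz consH oneH chd_eq chd_consH chd_oneH wt_eq ws_eq chd_add k_norm k_c1 k_c2 k_inj k_neg
  k_rfl dualE dualH dualE_short dualE_long rt_sq chd_dual_short chd_dual_long nE_dual)

variable {F : Type*} [Field F] {G : Type*} [Group G]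

/-- Root elements of `F₄(F)`, characteristic two. -/
structure ChartA (E : (Fin 4 → ℤ) → F → G) (T : (Fin 4 → Fˣ) →* G) : Prop where
  two : ∀ u : F, u + u = 0
  add : ∀ a ∈ rts, ∀ u v, E a (u + v) = E a u * E a v
  inj : ∀ a ∈ rts, ∀ u, E a u = 1 → u = 0
  sep : ∀ a ∈ rts, ∀ b ∈ rts, a ≠ b → ∀ u v, E a u = E b v → v = 0
  c0 : ∀ a ∈ rts, ∀ b ∈ rts, 0 ≤ B a b → ∀ u v, E a u * E b v = E b v * E a u
  c1 : ∀ a ∈ rts, ∀ b ∈ rts, B a a = B b b → B a b < 0 → a ≠ -b → ∀ u v,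
    E a u * E b v * (E a u)⁻¹ * (E b v)⁻¹ = E (a + b) (u * v)
  c2 : ∀ a ∈ rts, ∀ b ∈ rts, B a a = 4 → B b b = 2 → B a b = -2 → ∀ u v,
    E a u * E b v * (E a u)⁻¹ * (E b v)⁻¹ = E (a + b) (u * v) * E (a + b + b) (u * v ^ 2)
  tor : ∀ a ∈ rts, ∀ ν u, T ν * E a u * (T ν)⁻¹ = E a ((chd ν a : F) * u)
  nrf : ∀ a ∈ rts, ∀ b ∈ rts, ∀ u, nE E a * E b u * (nE E a)⁻¹ = E (rfl' a b) u

namespace ChartA

variable {E : (Fin 4 → ℤ) → F → G} {T : (Fin 4 → Fˣ) →* G} (C : ChartA E T)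

include C

theorem zero {a : Fin 4 → ℤ} (ha : a ∈ rts) : E a 0 = 1 := by
  have h1 := C.add a ha 0 0
  rw [add_zero] at h1
  exact (mul_eq_left.1 h1.symm)

theorem sq {a : Fin 4 → ℤ} (ha : a ∈ rts) (u : F) : E a u * E a u = 1 := by
  rw [← C.add a ha, C.two, C.zero ha]

theorem inv {a : Fin 4 → ℤ} (ha : a ∈ rts) (u : F) : (E a u)⁻¹ = E a u := inv_eq_of_mul_eq_one_left (C.sq ha u)

/-- conjugation, same length -/
theorem conj1 {a b : Fin 4 → ℤ} (ha : a ∈ rts) (hb : b ∈ rts) (h1 : B a a = B b b) (h2 : B a b < 0) (h3 : a ≠ -b)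
    (u v : F) : E a u * E b v * (E a u)⁻¹ = E (a + b) (u * v) * E b v := by
  rw [← C.c1 a ha b hb h1 h2 h3]; group

/-- conjugation of a short root element by a long one -/
theorem conj2 {a b : Fin 4 → ℤ} (ha : a ∈ rts) (hb : b ∈ rts) (h1 : B a a = 4) (h2 : B b b = 2) (h3 : B a b = -2)
    (u v : F) : E a u * E b v * (E a u)⁻¹ = E (a + b) (u * v) * E (a + b + b) (u * v ^ 2) * E b v := by
  rw [← C.c2 a ha b hb h1 h2 h3]; group

theorem add2_mem {a b : Fin 4 → ℤ} (ha : a ∈ rts) (hb : b ∈ rts) (h1 : B a a = 4) (h2 : B b b = 2) (h3 : B a b = -2) :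
    a + b ∈ rts ∧ a + b + b ∈ rts ∧ 0 ≤ B (a + b) (a + b + b) := by
  obtain ⟨m1, m2, m3, m4, -⟩ := roots.add_ls ha hb h1 h2 h3
  exact ⟨m1, m4, by rw [roots.add_right, m2, m3]; norm_num⟩

/-- conjugation of a long root element by a short one -/
theorem conj2' {a b : Fin 4 → ℤ} (ha : a ∈ rts) (hb : b ∈ rts) (h1 : B a a = 4) (h2 : B b b = 2) (h3 : B a b = -2)
    (u v : F) : E b v * E a u * (E b v)⁻¹ = E (a + b) (v * u) * E (a + b + b) (v ^ 2 * u) * E a u := by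
  obtain ⟨h4, h5, h6⟩ := C.add2_mem ha hb h1 h2 h3
  have e1 : E b v * E a u * (E b v)⁻¹ = (E a u * E b v * (E a u)⁻¹ * (E b v)⁻¹)⁻¹ * E a u := by group
  rw [e1, C.c2 a ha b hb h1 h2 h3, mul_inv_rev, C.inv h4, C.inv h5, ← C.c0 _ h4 _ h5 h6, mul_comm u v,
    mul_comm u (v ^ 2)]

theorem tor_comm {a : Fin 4 → ℤ} (ha : a ∈ rts) {ν : Fin 4 → Fˣ} (h : chd ν a = 1) (u : F) :
    T ν * E a u = E a u * T ν := by
  have h1 := C.tor a ha ν u
  rw [h, Units.val_one, one_mul] at h1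
  calc T ν * E a u = (T ν * E a u * (T ν)⁻¹) * T ν := by group
    _ = _ := by rw [h1]

/-- **The parabolic subgroup of `s0`.** -/
theorem loc : LocA (E s0) (fun j => E (rv j)) (fun i => E (rz i)) (fun j => E (rc j)) (fun j k => E (rl j k))
    (T.comp consH) where
  two := C.two
  x0_add := C.add _ s0_mem
  v_add := fun j => C.add _ (rv_mem j)
  z_add := fun i => C.add _ (rz_mem i)
  c_add := fun j => C.add _ (rc_mem j)
  l_add := fun j k a b h => C.add _ (rl_mem j k h) a b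
  l_symm := fun j k a => by unfold rl; rw [add_comm]
  x0_inj := C.inj _ s0_mem
  xv := fun a j b h => C.sep _ s0_mem _ (rv_mem j) (rv_ne j) a b h
  x0_v := fun a j b => C.c0 _ s0_mem _ (rv_mem j) (t_v j) a b
  x0_z := fun a j b => C.c0 _ s0_mem _ (rz_mem j) (t_z j) a b
  x0_c := fun a j b => C.c0 _ s0_mem _ (rc_mem j) (t_c j) a b
  x0_l := fun a j k b h => C.c0 _ s0_mem _ (rl_mem j k h) (t_l j k h) a b
  v_v := fun j a k b => C.c0 _ (rv_mem j) _ (rv_mem k) (t_vv j k) a b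
  v_z := fun j a i b => C.c0 _ (rv_mem j) _ (rz_mem i) (t_vz j i) a b
  z_z := fun i a j b h => C.c0 _ (rz_mem i) _ (rz_mem j) (t_zz i j h) a b
  z_op := fun i a b => by
    obtain ⟨h1, h2, h3, h4⟩ := t_zop i
    have := C.conj1 (rz_mem i) (rz_mem (op i)) h1 h2 h3 a b
    rwa [h4] at this
  c_v := fun k a b => by
    obtain ⟨h1, h2, h3, h4, h5⟩ := t_cv k
    have := C.conj2' (rv_mem (ng k)) (rc_mem k) h1 h2 h3 b a
    rwa [h5, h4] at this
  c_v' := fun k a j b h => C.c0 _ (rc_mem k) _ (rv_mem j) (t_cv' k j h) a b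
  c_z := fun k a i b h => by
    obtain ⟨h1, h2, h3, h4⟩ := t_cz k i h
    have := C.conj1 (rc_mem k) (rz_mem i) h1 h2 h3 a b
    rwa [h4] at this
  c_z' := fun k a i b h => C.c0 _ (rc_mem k) _ (rz_mem i) (t_cz' k i h) a b
  l_v := fun a b s u h => by
    obtain ⟨h1, h2, h3, h4⟩ := t_lv a b h
    have := C.conj1 (rl_mem a b h) (rv_mem (ng a)) h1 h2 h3 s u
    rwa [h4] at this
  l_v' := fun a b s j u h h1 h2 => C.c0 _ (rl_mem a b h) _ (rv_mem j) (t_lv' a b j h h1 h2) s u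
  l_z := fun a b s i u h h1 h2 => by
    obtain ⟨h3, h4, h5, h6, h7⟩ := t_lz a b i h h1 h2
    have := C.conj2 (rl_mem a b h) (rz_mem i) h3 h4 h5 s u
    rwa [h7, h6] at this
  l_z' := fun a b s i u h h1 => C.c0 _ (rl_mem a b h) _ (rz_mem i) (t_lz' a b i h h1) s u
  l_c := fun a b s u h => by
    obtain ⟨h3, h4, h5, h6, h7⟩ := t_lc a b h
    have := C.conj2 (rl_mem a b h) (rc_mem (ng a)) h3 h4 h5 s u
    rwa [h7, h6] at this
  th_x0 := fun ν a => C.tor_comm s0_mem (by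
    rw [chd_consH, d_s0]
    show ν 0 ^ (0 : ℤ) * ν 1 ^ (0 : ℤ) * ν 2 ^ (0 : ℤ) = 1
    rw [zpow_zero, zpow_zero, zpow_zero, mul_one, mul_one]) a
  th_v := fun ν j a => by
    show T (consH ν) * E (rv j) a * (T (consH ν))⁻¹ = _
    rw [C.tor _ (rv_mem j), rv, chd_add, chd_consH, chd_consH, wt_eq, d_s0]
    show E _ (((ν 0 ^ (0 : ℤ) * ν 1 ^ (0 : ℤ) * ν 2 ^ (0 : ℤ) * wt ν j : Fˣ) : F) * a) = _
    rw [zpow_zero, zpow_zero, zpow_zero, mul_one, mul_one, one_mul]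
  th_z := fun ν i a => by
    show T (consH ν) * E (rz i) a * (T (consH ν))⁻¹ = _
    rw [C.tor _ (rz_mem i), chd_consH, ws_eq]
  th_c := fun ν j a => by
    show T (consH ν) * E (rc j) a * (T (consH ν))⁻¹ = _
    rw [C.tor _ (rc_mem j), chd_consH, wt_eq]
  th_l := fun ν j k a h => by
    show T (consH ν) * E (rl j k) a * (T (consH ν))⁻¹ = _
    rw [C.tor _ (rl_mem j k h), rl, chd_add, chd_consH, chd_consH, wt_eq, wt_eq, Units.val_mul]

end ChartA



section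

variable {E : (Fin 4 → ℤ) → F → G} {T : (Fin 4 → Fˣ) →* G} (rt : F ≃+* F)

variable (hrt : ∀ u, rt u ^ 2 = u)

include hrt in
/-- **The dual chart.** -/
theorem ChartA.dual (C : ChartA E T) : ChartA (dualE rt E) (T.comp (dualH rt)) where
  two := C.two
  add := by
    intro a ha u v
    rcases k_norm a ha with ⟨h, -⟩ | ⟨h, -⟩
    · rw [dualE_short rt h, dualE_short rt h, dualE_short rt h]
      exact C.add _ (dual_mem a ha) u v
    · rw [dualE_long rt h, dualE_long rt h, dualE_long rt h, map_add]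
      exact C.add _ (dual_mem a ha) _ _
  inj := by
    intro a ha u hu
    rcases k_norm a ha with ⟨h, -⟩ | ⟨h, -⟩
    · rw [dualE_short rt h] at hu
      exact C.inj _ (dual_mem a ha) u hu
    · rw [dualE_long rt h] at hu
      have := C.inj _ (dual_mem a ha) _ hu
      exact (map_eq_zero_iff rt rt.injective).1 this
  sep := by
    intro a ha b hb hab u v huv
    obtain ⟨u', hu'⟩ : ∃ u', dualE rt E a u = E (Cfsg.Agent.OddHalf.D7F4.Model.dual a) u' := by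
      unfold dualE; split_ifs <;> exact ⟨_, rfl⟩
    rcases k_norm b hb with ⟨h, -⟩ | ⟨h, -⟩
    · rw [hu', dualE_short rt h] at huv
      exact C.sep _ (dual_mem a ha) _ (dual_mem b hb) (k_inj a ha b hb hab) _ _ huv
    · rw [hu', dualE_long rt h] at huv
      have := C.sep _ (dual_mem a ha) _ (dual_mem b hb) (k_inj a ha b hb hab) _ _ huv
      exact (map_eq_zero_iff rt rt.injective).1 this
  c0 := by
    intro a ha b hb hab u v
    obtain ⟨u', hu'⟩ : ∃ u', dualE rt E a u = E (Cfsg.Agent.OddHalf.D7F4.Model.dual a) u' := by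
      unfold dualE; split_ifs <;> exact ⟨_, rfl⟩
    obtain ⟨v', hv'⟩ : ∃ v', dualE rt E b v = E (Cfsg.Agent.OddHalf.D7F4.Model.dual b) v' := by
      unfold dualE; split_ifs <;> exact ⟨_, rfl⟩
    rw [hu', hv']
    exact C.c0 _ (dual_mem a ha) _ (dual_mem b hb) (d0 a ha b hb hab) _ _
  c1 := by
    intro a ha b hb h1 h2 h3 u v
    obtain ⟨h4, h5, h6, h7, h8⟩ := k_c1 a ha b hb h1 h2 h3
    have hn := dual_norm a ha
    have hn' := dual_norm b hb
    have h9 : B (Cfsg.Agent.OddHalf.D7F4.Model.dual a) (Cfsg.Agent.OddHalf.D7F4.Model.dual a) = B (Cfsg.Agent.OddHalf.D7F4.Model.dual b) (Cfsg.Agent.OddHalf.D7F4.Model.dual b) := by rw [hn, hn', h1]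
    rcases k_norm a ha with ⟨h, -⟩ | ⟨h, -⟩
    · rw [dualE_short rt h, dualE_short rt (h1 ▸ h), dualE_short rt (h4.trans h), h8]
      exact C.c1 _ (dual_mem a ha) _ (dual_mem b hb) h9 h6 h7 u v
    · rw [dualE_long rt h, dualE_long rt (h1 ▸ h), dualE_long rt (h4.trans h), h8, map_mul]
      exact C.c1 _ (dual_mem a ha) _ (dual_mem b hb) h9 h6 h7 _ _
  c2 := by
    intro a ha b hb h1 h2 h3 u v
    obtain ⟨h4, h5, h6, h7, h8, h9, h10⟩ := k_c2 a ha b hb h1 h2 h3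
    have hna : B (Cfsg.Agent.OddHalf.D7F4.Model.dual a) (Cfsg.Agent.OddHalf.D7F4.Model.dual a) = 2 := by rw [dual_norm a ha, h1]; norm_num
    have hnb : B (Cfsg.Agent.OddHalf.D7F4.Model.dual b) (Cfsg.Agent.OddHalf.D7F4.Model.dual b) = 4 := by rw [dual_norm b hb, h2]; norm_num
    have h11 := C.c2 _ (dual_mem b hb) _ (dual_mem a ha) hnb hna h8 v (rt u)
    rw [hrt, ← h9, ← h10] at h11
    rw [dualE_long rt h1, dualE_short rt h2, dualE_short rt h6, dualE_long rt h7, map_mul, map_pow, hrt]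
    have h12 : E (Cfsg.Agent.OddHalf.D7F4.Model.dual a) (rt u) * E (Cfsg.Agent.OddHalf.D7F4.Model.dual b) v * (E (Cfsg.Agent.OddHalf.D7F4.Model.dual a) (rt u))⁻¹ * (E (Cfsg.Agent.OddHalf.D7F4.Model.dual b) v)⁻¹ =
        (E (Cfsg.Agent.OddHalf.D7F4.Model.dual b) v * E (Cfsg.Agent.OddHalf.D7F4.Model.dual a) (rt u) * (E (Cfsg.Agent.OddHalf.D7F4.Model.dual b) v)⁻¹ * (E (Cfsg.Agent.OddHalf.D7F4.Model.dual a) (rt u))⁻¹)⁻¹ := by
      group
    rw [h12, h11, mul_inv_rev, C.inv (dual_mem _ h4), C.inv (dual_mem _ h5), mul_comm v u, mul_comm v (rt u)]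
  tor := by
    intro a ha ν u
    rcases k_norm a ha with ⟨h, -⟩ | ⟨h, -⟩
    · rw [dualE_short rt h, dualE_short rt h]
      show T (dualH rt ν) * _ * (T (dualH rt ν))⁻¹ = _
      rw [C.tor _ (dual_mem a ha), chd_dual_short rt hrt ν ha h]
    · rw [dualE_long rt h, dualE_long rt h]
      show T (dualH rt ν) * _ * (T (dualH rt ν))⁻¹ = _
      rw [C.tor _ (dual_mem a ha), ← chd_dual_long rt hrt ν ha h, map_mul, Units.val_pow_eq_pow_val, rt_sq rt hrt]
  nrf := by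
    intro a ha b hb u
    obtain ⟨h2, h3⟩ := k_rfl a ha b hb
    rw [nE_dual rt ha]
    rcases k_norm b hb with ⟨h, -⟩ | ⟨h, -⟩
    · rw [dualE_short rt h, dualE_short rt (h2.trans h), h3]
      exact C.nrf _ (dual_mem a ha) _ (dual_mem b hb) _
    · rw [dualE_long rt h, dualE_long rt (h2.trans h), h3]
      exact C.nrf _ (dual_mem a ha) _ (dual_mem b hb) _


end

end Cfsg.Agent.Omega.All.F4K

namespace Cfsg.Agent.Omega.All.F4K

open CoxeterSystem Cfsg.Agent.ChevalleyStructure.CoxeterGeom Cfsg.Agent.Tits.Roots Cfsg.Agent.Tits.Core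
open Cfsg.Lie Cfsg.Agent.ChevalleyStructure Cfsg.Agent.ChevalleyStructure.Elts
  Cfsg.Agent.ChevalleyStructure.RootVec Cfsg.Agent.ChevalleyStructure.CoxeterGeomTypes
open Cfsg.Agent.Nodes Cfsg.Agent.Nodes.Reps Cfsg.Agent.Nodes.BNOf Cfsg.Agent.Nodes.RGDChev Cfsg.Agent.Nodes.Coroot
  Cfsg.Agent.Nodes.KindF Cfsg.Agent.KFacts.ChevTwo Cfsg.Agent.KFacts.ChevTwoTab
  Cfsg.Agent.KFacts.ChevTwoInst Cfsg.Agent.KFacts.F4Star Cfsg.Agent.KFacts.F4Cent Cfsg.Agent.KFacts.F4Pair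
  Cfsg.Agent.KFacts.F4Torus Cfsg.Agent.KFacts.F4Model Cfsg.Agent.KFacts.F4Chart
open Cfsg.Agent.OddHalf.D7F4
open Cfsg.Agent.OddHalf.D7F4Ex (chd chd_add dd dd_add nE rfl' dualE dualH)

universe u

section Tor

variable {K : Type u} [Field K] [Finite K] [CharP K 2]

/-- **The chart of `F₄(q)`.** -/
theorem chart_id : ChartA (eF K) (torH K) where
  two u := CharTwo.add_self_eq_zero u
  add a ha u v := (dat (K := K)).add a ((phi_iff cF a).1 ha) u v
  inj a ha u hu := e_eq_one ha hu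
  sep a ha b hb hab u v huv := by
    have h1 : eF K b v = 1 := ind ha hb hab _ ((mem_X ha).2 ⟨u, huv⟩) ((mem_X hb).2 ⟨v, rfl⟩)
    exact e_eq_one hb h1
  c0 a ha b hb h u v := X0 ha hb h _ ((mem_X ha).2 ⟨u, rfl⟩) _ ((mem_X hb).2 ⟨v, rfl⟩)
  c1 a ha b hb h1 h2 h3 u v := comm1 ha hb h1 h2 h3 u v
  c2 a ha b hb h1 h2 h3 u v := comm2 ha hb h1 h2 h3 u v
  tor a ha ν u := torH_conj ν ha u
  nrf a ha b hb u := by
    have hW := finW
    have h1 := (dat (K := K)).nel_conj ((phi_iff cF b).1 hb) ((phi_iff cF a).1 ha) u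
    have h2 : rfl' a b = b - cpr cF isType.isCartan b a • a := by
      have h3 := two_B cF hb ha
      have h4 : Model.B a a ≠ 0 := by
        rcases Model.norm a ha with h | h <;> omega
      unfold Cfsg.Agent.OddHalf.D7F4Ex.rfl'
      rw [Model.B_symm a b, h3, Int.mul_ediv_cancel _ h4]
    rw [nel_def] at h1
    rw [h2, ← h1]
    unfold Cfsg.Agent.OddHalf.D7F4Ex.nE
    rfl

variable {G : Type*} [Group G]

omit [Finite K] [CharP K 2] in
/-- Charts in overgroups. -/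
theorem chart_comp {E : (Fin 4 → ℤ) → K → ↥(chevF4.group K)} {T : (Fin 4 → Kˣ) →* ↥(chevF4.group K)} (C : ChartA E T)
    {j : ↥(chevF4.group K) →* G} (hj : Function.Injective j) : ChartA (fun a u => j (E a u)) (j.comp T) where
  two := C.two
  add a ha u v := by rw [C.add a ha, map_mul]
  inj a ha u hu := C.inj a ha u (hj (by rw [map_one]; exact hu))
  sep a ha b hb hab u v huv := C.sep a ha b hb hab u v (hj huv)
  c0 a ha b hb h u v := by rw [← map_mul, C.c0 a ha b hb h, map_mul]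
  c1 a ha b hb h1 h2 h3 u v := by
    rw [← map_inv, ← map_inv, ← map_mul, ← map_mul, ← map_mul, C.c1 a ha b hb h1 h2 h3]
  c2 a ha b hb h1 h2 h3 u v := by
    rw [← map_inv, ← map_inv, ← map_mul, ← map_mul, ← map_mul, C.c2 a ha b hb h1 h2 h3, map_mul]
  tor a ha ν u := by
    rw [MonoidHom.comp_apply, ← map_inv, ← map_mul, ← map_mul, C.tor a ha]
  nrf a ha b hb u := by
    have h1 : nE (fun a u => j (E a u)) a = j (nE E a) := by
      unfold Cfsg.Agent.OddHalf.D7F4Ex.nE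
      rw [map_mul, map_mul]
    rw [h1, ← map_inv, ← map_mul, ← map_mul, C.nrf a ha b hb]

/-- **The chart of an embedded `F₄(q)`.** -/
theorem chart {j : ↥(chevF4.group K) →* G} (hj : Function.Injective j) :
    ChartA (fun a u => j (eF K a u)) (j.comp (torH K)) := chart_comp chart_id hj


end Tor

end Cfsg.Agent.Omega.All.F4K
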