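import Cfsg.Agent.Omega.All.F4K.Loc

/-!
# `P` is irreducible on `Q/V` and on `V/X`, all even `q` (helper866, copied from helper250's `D7F4Ex/Irr.lean`)
-/

set_option autoImplicit false
set_option linter.unusedSectionVars false
set_option linter.style.haveILetI false

namespace Cfsg.Agent.Omega.All.F4K.LocA

open Subgroup
open Cfsg.Agent.OddHalf.D7F4Ex (J Sp ng fl op thd wt ws ng_ng ng_ne op_op fl_fl fl_self fl_ne)
open Cfsg.Agent.OddHalf.D7F4Ex.Loc (gV Xs Vs Qs Ps zero_of_add self_of_add inv_of_add X_le_V V_le_Q Q_le_P v_mem z_mem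
  c_mem l_mem th_mem)

variable {F : Type*} [Field F] {G : Type*} [Group G] {x0 : F → G} {v : J → F → G} {z : Sp → F → G} {c : J → F → G}
  {l : J → J → F → G} {th : (Fin 3 → Fˣ) →* G}

section

variable (L : LocA x0 v z c l th)

include L

/-- `V` as a commutative group -/
@[reducible] def commV : CommGroup (Vs x0 v) :=
  { (inferInstance : Group (Vs x0 v)) with mul_comm := fun x y => Subtype.ext (L.VV (z := z) x.2 y.2) }

/-- the product of the `v j (ω j)` -/
def vv (ω : J → F) : Vs x0 v :=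
  letI := L.commV
  ∏ j, (⟨v j (ω j), v_mem j _⟩ : Vs x0 v)

theorem vv_add (ω ω' : J → F) : (L.vv (ω + ω') : G) = L.vv ω * L.vv ω' := by
  letI := L.commV
  have h : L.vv (ω + ω') = L.vv ω * L.vv ω' := by
    unfold vv
    rw [← Finset.prod_mul_distrib]
    refine Finset.prod_congr rfl fun j _ => Subtype.ext ?_
    show v j ((ω + ω') j) = v j (ω j) * v j (ω' j)
    rw [Pi.add_apply, L.v_add]
  rw [h]; rfl

theorem vv_single (j : J) (a : F) : (L.vv (Pi.single j a) : G) = v j a := by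
  letI := L.commV
  have h : L.vv (Pi.single j a) = (⟨v j a, v_mem j _⟩ : Vs x0 v) := by
    unfold vv
    rw [Finset.prod_eq_single j]
    · apply Subtype.ext
      show v j ((Pi.single j a : J → F) j) = v j a
      rw [Pi.single_eq_same]
    · intro k _ hk
      apply Subtype.ext
      show v k _ = 1
      rw [Pi.single_eq_of_ne hk, zero_of_add (L.v_add k)]
    · intro h; exact absurd (Finset.mem_univ j) h
  rw [h]

theorem vv_zero : (L.vv 0 : G) = 1 := zero_of_add' L.vv_add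
where
  zero_of_add' (h : ∀ ω ω' : J → F, (L.vv (ω + ω') : G) = L.vv ω * L.vv ω') : (L.vv 0 : G) = 1 := by
    have h1 := h 0 0
    rw [add_zero] at h1
    exact (mul_eq_left.1 h1.symm)

/-- Coordinates of an element of `V`. -/
structure CoV (g : G) (r : F) (ω : J → F) : Prop where
  eq : g = x0 r * L.vv ω
  act : ∀ k u, c k u * g * (c k u)⁻¹ = x0 (u * ω (ng k)) * v k (u ^ 2 * ω (ng k)) * g

theorem exists_coV {g : G} (hg : g ∈ Vs x0 v) : ∃ r ω, L.CoV g r ω := by
  induction hg using closure_induction with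
  | mem x hx =>
    rcases hx with ⟨a, rfl⟩ | ⟨j, a, rfl⟩
    · refine ⟨a, 0, ⟨by rw [L.vv_zero, mul_one], fun k u => ?_⟩⟩
      rw [Pi.zero_apply, mul_zero, mul_zero, zero_of_add L.x0_add, zero_of_add (L.v_add k), one_mul, one_mul,
        ← L.x0_c, mul_inv_cancel_right]
    · refine ⟨0, Pi.single j a, ⟨by rw [zero_of_add L.x0_add, one_mul, L.vv_single], fun k u => ?_⟩⟩
      by_cases h : j = ng k
      · subst h
        rw [L.c_v, Pi.single_eq_same]
      · rw [Pi.single_eq_of_ne (Ne.symm h), mul_zero, mul_zero, zero_of_add L.x0_add, zero_of_add (L.v_add k),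
          one_mul, one_mul, L.c_v' _ _ _ _ h, mul_inv_cancel_right]
  | one =>
    refine ⟨0, 0, ⟨by rw [L.vv_zero, mul_one, zero_of_add L.x0_add], fun k u => ?_⟩⟩
    rw [Pi.zero_apply, mul_zero, mul_zero, zero_of_add L.x0_add, zero_of_add (L.v_add k), one_mul, one_mul,
      mul_one, mul_inv_cancel]
  | mul x y hx hy ih1 ih2 =>
    obtain ⟨r, ω, h1⟩ := ih1
    obtain ⟨r', ω', h2⟩ := ih2
    refine ⟨r + r', ω + ω', ⟨?_, fun k u => ?_⟩⟩
    · have h3 := L.VV (z := z) (X_le_V (L.x0_mem r')) (L.vv ω).2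
      calc x * y = x0 r * L.vv ω * (x0 r' * L.vv ω') := by rw [← h1.eq, ← h2.eq]
        _ = x0 r * (L.vv ω * x0 r') * L.vv ω' := by group
        _ = x0 (r + r') * L.vv (ω + ω') := by rw [← h3, L.x0_add, L.vv_add]; group
    · have h4 : x0 (u * ω' (ng k)) * v k (u ^ 2 * ω' (ng k)) ∈ Vs x0 v :=
        mul_mem (X_le_V (L.x0_mem _)) (v_mem _ _)
      have h5 := L.VV (z := z) (mul_mem (mul_mem (X_le_V (L.x0_mem (u * ω (ng k)))) (v_mem k (u ^ 2 * ω (ng k)))) hx) h4
      have h6 := L.x0_v (u * ω' (ng k)) k (u ^ 2 * ω (ng k))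
      calc c k u * (x * y) * (c k u)⁻¹ = (c k u * x * (c k u)⁻¹) * (c k u * y * (c k u)⁻¹) := by group
        _ = x0 (u * ω (ng k)) * v k (u ^ 2 * ω (ng k)) * x * (x0 (u * ω' (ng k)) * v k (u ^ 2 * ω' (ng k))) * y := by
          rw [h1.act, h2.act]; group
        _ = x0 (u * ω' (ng k)) * v k (u ^ 2 * ω' (ng k)) * (x0 (u * ω (ng k)) * v k (u ^ 2 * ω (ng k)) * x) * y := by
          rw [h5]
        _ = x0 (u * ω' (ng k)) * (v k (u ^ 2 * ω' (ng k)) * x0 (u * ω (ng k))) * v k (u ^ 2 * ω (ng k)) * x * y := by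
          group
        _ = _ := by
          rw [← L.x0_v, Pi.add_apply, mul_add, mul_add, L.x0_add, L.v_add,
            show x0 (u * ω (ng k)) * x0 (u * ω' (ng k)) = x0 (u * ω' (ng k)) * x0 (u * ω (ng k)) by
              rw [← L.x0_add, ← L.x0_add, add_comm],
            show v k (u ^ 2 * ω (ng k)) * v k (u ^ 2 * ω' (ng k)) = v k (u ^ 2 * ω' (ng k)) * v k (u ^ 2 * ω (ng k)) by
              rw [← L.v_add, ← L.v_add, add_comm]]
          group
  | inv x hx ih =>
    obtain ⟨r, ω, h1⟩ := ih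
    have h2 : x⁻¹ = x := inv_eq_of_mul_eq_one_left (L.V2 (z := z) hx)
    rw [h2]
    exact ⟨r, ω, h1⟩

theorem v_inj {j : J} {a : F} (h : v j a = 1) : a = 0 := L.xv 0 j a (by rw [h, zero_of_add L.x0_add])

theorem CoV.unique {g : G} {r r' : F} {ω ω' : J → F} (h : L.CoV g r ω) (h' : L.CoV g r' ω') : ω = ω' := by
  funext j
  obtain ⟨k, rfl⟩ : ∃ k, j = ng k := ⟨ng j, (ng_ng j).symm⟩
  have h1 := mul_right_cancel ((h.act k 1).symm.trans (h'.act k 1))
  rw [one_mul, one_mul, one_pow, one_mul, one_mul] at h1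
  have h2 : x0 (ω (ng k) + ω' (ng k)) = v k (ω (ng k) + ω' (ng k)) := by
    have h3 : x0 (ω' (ng k)) * x0 (ω (ng k)) = v k (ω' (ng k)) * (v k (ω (ng k)))⁻¹ := by
      calc x0 (ω' (ng k)) * x0 (ω (ng k)) = (x0 (ω' (ng k)))⁻¹ * (x0 (ω (ng k)) * v k (ω (ng k))) *
            (v k (ω (ng k)))⁻¹ := by rw [inv_of_add L.two L.x0_add]; group
        _ = _ := by rw [h1]; group
    rw [add_comm (ω (ng k)), L.x0_add, h3, inv_of_add L.two (L.v_add k), L.v_add]
  have h4 := L.xv _ _ _ h2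
  have h5 := L.two (ω' (ng k))
  calc ω (ng k) = (ω (ng k) + ω' (ng k)) + ω' (ng k) := by rw [add_assoc, h5, add_zero]
    _ = ω' (ng k) := by rw [h4, zero_add]

/-- the torus in coordinates -/
theorem CoV.torus {g : G} {r : F} {ω : J → F} (h : L.CoV g r ω) (ν : Fin 3 → Fˣ) :
    L.CoV (th ν * g * (th ν)⁻¹) r (fun j => (wt ν j : F) * ω j) := by
  obtain ⟨r', ω', h'⟩ := L.exists_coV (g := th ν * g * (th ν)⁻¹)
    (L.PV (th_mem ν) (by rw [h.eq]; exact mul_mem (X_le_V (L.x0_mem r)) (L.vv ω).2))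
  have hact : ∀ k u, c k u * (th ν * g * (th ν)⁻¹) * (c k u)⁻¹ =
      x0 (u * ((wt ν (ng k) : F) * ω (ng k))) * v k (u ^ 2 * ((wt ν (ng k) : F) * ω (ng k))) *
        (th ν * g * (th ν)⁻¹) := by
    intro k u
    have e0 : wt ν (ng k) = (wt ν k)⁻¹ := by
      rcases k with ⟨k, b⟩
      cases b <;> simp [wt, ng]
    have hw : ((wt ν k : Fˣ) : F) ≠ 0 := (wt ν k).ne_zero
    have e1 : c k u = th ν * c k (((wt ν k)⁻¹ : Fˣ) * u) * (th ν)⁻¹ := by
      rw [L.th_c, ← mul_assoc, Units.mul_inv, one_mul]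
    calc c k u * (th ν * g * (th ν)⁻¹) * (c k u)⁻¹
        = th ν * (c k (((wt ν k)⁻¹ : Fˣ) * u) * g * (c k (((wt ν k)⁻¹ : Fˣ) * u))⁻¹) * (th ν)⁻¹ := by
          rw [e1]; group
      _ = (th ν * x0 ((((wt ν k)⁻¹ : Fˣ) * u) * ω (ng k)) * (th ν)⁻¹) *
          (th ν * v k ((((wt ν k)⁻¹ : Fˣ) * u) ^ 2 * ω (ng k)) * (th ν)⁻¹) * (th ν * g * (th ν)⁻¹) := by
          rw [h.act]; group
      _ = _ := by
        rw [L.th_x0, mul_inv_cancel_right, L.th_v, e0]
        congr 3
        · ring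
        · rw [Units.val_inv_eq_inv_val]; field_simp
  -- uniqueness of the coordinates from the action
  have huniq : ω' = fun j => (wt ν j : F) * ω j := by
    funext j
    obtain ⟨k, rfl⟩ : ∃ k, j = ng k := ⟨ng j, (ng_ng j).symm⟩
    have h1 := mul_right_cancel ((h'.act k 1).symm.trans (hact k 1))
    rw [one_mul, one_mul, one_pow, one_mul, one_mul] at h1
    set α := ω' (ng k)
    set β := (wt ν (ng k) : F) * ω (ng k)
    have h2 : x0 (α + β) = v k (α + β) := by
      have h3 : x0 β * x0 α = v k β * (v k α)⁻¹ := by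
        calc x0 β * x0 α = (x0 β)⁻¹ * (x0 α * v k α) * (v k α)⁻¹ := by
              rw [inv_of_add L.two L.x0_add]; group
          _ = _ := by rw [h1]; group
      rw [add_comm α, L.x0_add, h3, inv_of_add L.two (L.v_add k), L.v_add]
    have h4 := L.xv _ _ _ h2
    have h5 := L.two β
    calc α = (α + β) + β := by rw [add_assoc, h5, add_zero]
      _ = β := by rw [h4, zero_add]
  have hvv : (th ν * L.vv ω * (th ν)⁻¹ : G) = L.vv (fun j => (wt ν j : F) * ω j) := by
    letI := L.commV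
    let cg : Vs x0 v →* Vs x0 v :=
      { toFun := fun y => ⟨th ν * y * (th ν)⁻¹, L.PV (th_mem ν) y.2⟩
        map_one' := Subtype.ext (by show th ν * 1 * (th ν)⁻¹ = 1; group)
        map_mul' := fun x y => Subtype.ext (by
          show th ν * (x * y) * (th ν)⁻¹ = th ν * x * (th ν)⁻¹ * (th ν * y * (th ν)⁻¹)
          group) }
    have h1 : cg (L.vv ω) = L.vv (fun j => (wt ν j : F) * ω j) := by
      unfold vv
      rw [map_prod]
      exact Finset.prod_congr rfl fun j _ => Subtype.ext (L.th_v ν j _)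
    exact congrArg Subtype.val h1
  refine ⟨?_, hact⟩
  rw [h.eq]
  calc th ν * (x0 r * L.vv ω) * (th ν)⁻¹ = th ν * x0 r * (th ν)⁻¹ * (th ν * L.vv ω * (th ν)⁻¹) := by group
    _ = _ := by rw [L.th_x0, mul_inv_cancel_right, hvv]

theorem CoV.mem_X {g : G} {r : F} (h : L.CoV g r 0) : g = x0 r := by
  rw [h.eq, L.vv_zero, mul_one]

theorem add_eq_zero {a b : F} (h : a + b = 0) : a = b := by
  have h1 := L.two b
  calc a = (a + b) + b := by rw [add_assoc, h1, add_zero]
    _ = b := by rw [h, zero_add]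

/-- every element is a square -/
theorem exists_sqrt [Finite F] (a : F) : ∃ b : F, b ^ 2 = a := by
  have hinj : Function.Injective (fun b : F => b ^ 2) := by
    intro b b' h
    have h1 : (b + b') * (b + b') = 0 := by
      have h2 : b ^ 2 = b' ^ 2 := h
      calc (b + b') * (b + b') = b ^ 2 + b' ^ 2 + (b * b' + b * b') := by ring
        _ = 0 := by rw [L.two, h2, L.two, add_zero]
    exact L.add_eq_zero (mul_self_eq_zero.1 h1)
  exact (Finite.injective_iff_surjective.1 hinj) a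

theorem exists_sqrt_unit [Finite F] (a : Fˣ) : ∃ b : Fˣ, b ^ 2 = a := by
  obtain ⟨b, hb⟩ := L.exists_sqrt (a : F)
  have h0 : b ≠ 0 := by
    rintro rfl
    apply a.ne_zero
    rw [← hb]; ring
  exact ⟨Units.mk0 b h0, Units.ext (by rw [Units.val_pow_eq_pow_val, Units.val_mk0, hb])⟩

/-- the torus moves `a` to `b` on the root group `j` -/
theorem exists_wt [Finite F] (j : J) (a : Fˣ) : ∃ ν : Fin 3 → Fˣ, wt ν j = a := by
  obtain ⟨b, hb⟩ := L.exists_sqrt_unit a
  rcases j with ⟨k, s⟩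
  cases s
  · exact ⟨fun _ => b⁻¹, by simp [wt, hb]⟩
  · exact ⟨fun _ => b, by simp [wt, hb]⟩

/-- `P` is irreducible on `V / X`. -/
theorem irrV [Finite F] {R : Subgroup G} (h1 : Xs x0 ≤ R) (h2 : R ≤ Vs x0 v)
    (h3 : ∀ p ∈ Ps x0 v z c l th, ∀ r ∈ R, p * r * p⁻¹ ∈ R) : R = Xs x0 ∨ R = Vs x0 v := by
  by_cases hR : R ≤ Xs x0
  · exact Or.inl (le_antisymm hR h1)
  right
  apply le_antisymm h2
  obtain ⟨g, hg, hgX⟩ := SetLike.not_le_iff_exists.1 hR
  obtain ⟨r, ω, hω⟩ := L.exists_coV (h2 hg)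
  have h4 : ω ≠ 0 := by
    rintro rfl
    exact hgX (L.mem_X.2 ⟨r, hω.mem_X⟩)
  obtain ⟨j, hj⟩ := Function.ne_iff.1 h4
  -- some `v k w ∈ R`
  have h5 : v (ng j) (ω j) ∈ R := by
    have h6 := h3 _ (c_mem (ng j) 1) g hg
    rw [hω.act, one_mul, one_pow, one_mul, ng_ng] at h6
    have h7 := mul_mem (mul_mem (inv_mem (h1 (L.x0_mem (ω j)))) h6) (inv_mem hg)
    have e : (x0 (ω j))⁻¹ * (x0 (ω j) * v (ng j) (ω j) * g) * g⁻¹ = v (ng j) (ω j) := by group
    rwa [e] at h7
  have hall : ∀ k w, w ≠ 0 → v k w ∈ R → ∀ u, v k u ∈ R := by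
    intro k w hw hk u
    by_cases hu : u = 0
    · rw [hu, zero_of_add (L.v_add k)]; exact one_mem _
    obtain ⟨ν, hν⟩ := L.exists_wt k (Units.mk0 u hu * (Units.mk0 w hw)⁻¹)
    have h6 := h3 _ (th_mem ν) _ hk
    rw [L.th_v, hν, Units.val_mul, Units.val_mk0, Units.val_inv_eq_inv_val, Units.val_mk0, mul_assoc,
      inv_mul_cancel₀ hw, mul_one] at h6
    exact h6
  have hng : ∀ k, (∀ u, v k u ∈ R) → ∀ u, v (ng k) u ∈ R := by
    intro k hk
    apply hall _ 1 one_ne_zero
    have h6 := h3 _ (c_mem (ng k) 1) _ (hk 1)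
    have h7 := L.c_v (ng k) 1 1
    rw [ng_ng, one_mul, one_pow, one_mul] at h7
    rw [h7] at h6
    have h8 := mul_mem (mul_mem (inv_mem (h1 (L.x0_mem 1))) h6) (inv_mem (hk 1))
    have e : (x0 1)⁻¹ * (x0 1 * v (ng k) 1 * v k 1) * (v k 1)⁻¹ = v (ng k) 1 := by group
    rwa [e] at h8
  have hst : ∀ k m, k.1 ≠ m.1 → (∀ u, v k u ∈ R) → ∀ u, v m u ∈ R := by
    intro k m hkm hk u
    have h6 := h3 _ (l_mem (j := ng k) (k := m) hkm u) _ (hk 1)
    have h7 := L.l_v (ng k) m u 1 hkm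
    rw [ng_ng] at h7
    rw [h7, mul_one] at h6
    have h8 := mul_mem h6 (inv_mem (hk 1))
    rwa [mul_inv_cancel_right] at h8
  have h8 : ∀ m u, v m u ∈ R := by
    have h9 := hall _ _ hj h5
    have h10 : ∀ m, m.1 ≠ (ng j).1 → ∀ u, v m u ∈ R := fun m hm => hst _ m (Ne.symm hm) h9
    intro m
    by_cases hm : m.1 = (ng j).1
    · -- through a third index
      obtain ⟨m', hm'⟩ : ∃ m' : J, m'.1 ≠ (ng j).1 := by
        obtain ⟨i, hi⟩ : ∃ i : Fin 3, i ≠ (ng j).1 := exists_ne _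
        exact ⟨(i, true), hi⟩
      exact hst m' m (by rw [hm]; exact hm') (h10 m' hm')
    · exact h10 m hm
  rw [Vs, closure_le]
  rintro g (⟨a, rfl⟩ | ⟨j, a, rfl⟩)
  · exact h1 (L.x0_mem a)
  · exact h8 j a

/-! ### `Q / V` -/

/-- the elements of `Q` with coordinates `a` modulo `V` -/
def CoQ (x0 : F → G) (z : Sp → F → G) (q : G) (a : Sp → F) : Prop :=
  ∀ i b, q * z i b * q⁻¹ = x0 (a (op i) * b) * z i b

theorem CoQ.mul {q q' : G} {a a' : Sp → F} (hq : q ∈ Qs x0 v z) (h : CoQ x0 z q a) (h' : CoQ x0 z q' a') :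
    CoQ x0 z (q * q') (a + a') := by
  intro i b
  have h1 := L.XP (c := c) (l := l) (th := th) (L.x0_mem (a' (op i) * b)) (Q_le_P hq)
  calc q * q' * z i b * (q * q')⁻¹ = q * (q' * z i b * q'⁻¹) * q⁻¹ := by group
    _ = (q * x0 (a' (op i) * b)) * z i b * q⁻¹ := by rw [h' i b]; group
    _ = x0 (a' (op i) * b) * (q * z i b * q⁻¹) := by rw [← h1]; group
    _ = x0 ((a + a') (op i) * b) * z i b := by
      rw [h i b, ← mul_assoc, ← L.x0_add, Pi.add_apply, add_mul, add_comm]

theorem coQ_single (i : Sp) (a : F) : CoQ x0 z (z i a) (Pi.single i a) := by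
  intro j b
  rw [L.z_conj]
  by_cases h : j = op i
  · rw [if_pos h, h, op_op, Pi.single_eq_same]
  · rw [if_neg h, Pi.single_eq_of_ne, zero_mul]
    intro h2; apply h; rw [← h2, op_op]

theorem coQ_V {y : G} (hy : y ∈ Vs x0 v) : CoQ x0 z y 0 := by
  intro i b
  rw [Pi.zero_apply, zero_mul, zero_of_add L.x0_add, one_mul, L.VQ hy (z_mem i b), mul_inv_cancel_right]

theorem CoQ.unique {q : G} {a a' : Sp → F} (h : CoQ x0 z q a) (h' : CoQ x0 z q a') : a = a' :=
  L.beta_unique h h'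

/-- every vector is realised -/
theorem exists_coQ (a : Sp → F) : ∃ q ∈ Qs x0 v z, CoQ x0 z q a := by
  classical
  have h1 : ∀ s : Finset Sp, ∃ q ∈ Qs x0 v z, CoQ x0 z q (∑ i ∈ s, Pi.single i (a i)) := by
    intro s
    induction s using Finset.induction_on with
    | empty => exact ⟨1, one_mem _, by rw [Finset.sum_empty]; exact L.coQ_V (one_mem _)⟩
    | insert i s hi ih =>
      obtain ⟨q, hq, hqa⟩ := ih
      exact ⟨z i (a i) * q, mul_mem (z_mem _ _) hq, by
        rw [Finset.sum_insert hi]; exact CoQ.mul L (z_mem _ _) (L.coQ_single i (a i)) hqa⟩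
  obtain ⟨q, hq, hqa⟩ := h1 Finset.univ
  rw [Finset.univ_sum_single] at hqa
  exact ⟨q, hq, hqa⟩

/-- `C_Q(Q) = V` : an element with coordinates `0` lies in `V` -/
theorem mem_V_of_coQ {q : G} (hq : q ∈ Qs x0 v z) (h : CoQ x0 z q 0) : q ∈ Vs x0 v := by
  classical
  haveI : ((Vs x0 v).subgroupOf (Qs x0 v z)).Normal := ⟨by
    rintro ⟨y, hy⟩ hyV ⟨g, hg⟩
    rw [mem_subgroupOf] at hyV ⊢
    exact L.PV (z := z) (c := c) (l := l) (th := th) (Q_le_P hg) hyV⟩
  let B := Qs x0 v z ⧸ (Vs x0 v).subgroupOf (Qs x0 v z)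
  letI : CommGroup B := { (inferInstance : Group B) with
    mul_comm := by
      intro x y
      induction x using QuotientGroup.induction_on with
      | H x =>
      induction y using QuotientGroup.induction_on with
      | H y =>
      rw [← QuotientGroup.mk_mul, ← QuotientGroup.mk_mul, eq_comm, QuotientGroup.eq, mem_subgroupOf]
      have h1 := X_le_V (v := v) (L.QQ (inv_mem x.2) (inv_mem y.2))
      have e : (((y * x)⁻¹ * (x * y) : Qs x0 v z) : G) =
          (x : G)⁻¹ * (y : G)⁻¹ * (x : G)⁻¹⁻¹ * (y : G)⁻¹⁻¹ := by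
        show ((y : G) * x)⁻¹ * (x * y) = _
        group
      rw [e]; exact h1 }
  let zb : Sp → F → B := fun i a => ((⟨z i a, z_mem i a⟩ : Qs x0 v z) : B)
  have hzb : ∀ i a b, zb i (a + b) = zb i a * zb i b := by
    intro i a b
    show ((⟨z i (a + b), _⟩ : Qs x0 v z) : B) = ((⟨z i a, _⟩ : Qs x0 v z) : B) * ((⟨z i b, _⟩ : Qs x0 v z) : B)
    rw [← QuotientGroup.mk_mul]
    congr 1
    exact Subtype.ext (L.z_add i a b)
  have hzb0 : ∀ i, zb i 0 = 1 := fun i => zero_of_add (hzb i)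
  have key : ∀ q (hq : q ∈ Qs x0 v z), ∃ a : Sp → F, CoQ x0 z q a ∧
      ((⟨q, hq⟩ : Qs x0 v z) : B) = ∏ i, zb i (a i) := by
    intro q hq
    induction hq using closure_induction with
    | mem x hx =>
      rcases hx with hx | ⟨i, a, rfl⟩
      · have hx' : x ∈ Vs x0 v := subset_closure hx
        refine ⟨0, L.coQ_V hx', ?_⟩
        have h1 : ∏ i, zb i ((0 : Sp → F) i) = 1 := Finset.prod_eq_one fun i _ => hzb0 i
        rw [h1]
        exact (QuotientGroup.eq_one_iff _).2 hx'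
      · refine ⟨Pi.single i a, L.coQ_single i a, ?_⟩
        rw [Finset.prod_eq_single i]
        · rw [Pi.single_eq_same]
        · intro k _ hk
          rw [Pi.single_eq_of_ne hk, hzb0]
        · intro h; exact absurd (Finset.mem_univ i) h
    | one =>
      refine ⟨0, L.coQ_V (one_mem _), ?_⟩
      have h1 : ∏ i, zb i ((0 : Sp → F) i) = 1 := Finset.prod_eq_one fun i _ => hzb0 i
      rw [h1]; rfl
    | mul x y hx hy ih1 ih2 =>
      obtain ⟨a, ha, ha2⟩ := ih1
      obtain ⟨a', ha', ha2'⟩ := ih2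
      refine ⟨a + a', CoQ.mul L hx ha ha', ?_⟩
      have h1 : ((⟨x * y, mul_mem hx hy⟩ : Qs x0 v z) : B) =
          ((⟨x, hx⟩ : Qs x0 v z) : B) * ((⟨y, hy⟩ : Qs x0 v z) : B) := rfl
      rw [h1, ha2, ha2', ← Finset.prod_mul_distrib]
      exact Finset.prod_congr rfl fun i _ => (hzb i _ _).symm
    | inv x hx ih =>
      obtain ⟨a, ha, ha2⟩ := ih
      have h1 : x⁻¹ = x * (x * x)⁻¹ := by group
      have h2 := L.Q2 hx
      have h3 := CoQ.mul L hx ha (L.coQ_V (inv_mem h2))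
      rw [add_zero, ← h1] at h3
      refine ⟨a, h3, ?_⟩
      rw [← ha2, QuotientGroup.eq, mem_subgroupOf]
      show x⁻¹⁻¹ * x ∈ Vs x0 v
      rw [inv_inv]; exact h2
  obtain ⟨a, ha, ha2⟩ := key q hq
  have h0 : a = 0 := CoQ.unique L ha h
  rw [h0] at ha2
  have h1 : ∏ i, zb i ((0 : Sp → F) i) = 1 := Finset.prod_eq_one fun i _ => hzb0 i
  rw [h1] at ha2
  have h2 := (QuotientGroup.eq_one_iff (⟨q, hq⟩ : Qs x0 v z)).1 ha2
  exact h2

theorem ZQ {q : G} (hq : q ∈ Qs x0 v z) (h : ∀ y ∈ Qs x0 v z, q * y = y * q) : q ∈ Vs x0 v := by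
  refine L.mem_V_of_coQ (c := c) (l := l) (th := th) hq fun i b => ?_
  rw [Pi.zero_apply, zero_mul, zero_of_add L.x0_add, one_mul, h _ (z_mem i b), mul_inv_cancel_right]

theorem coQ_of_mem {q : G} (hq : q ∈ Qs x0 v z) : ∃ a, CoQ x0 z q a := L.exists_beta hq

/-- conjugation in coordinates -/
theorem CoQ.conj_c {q : G} {a : Sp → F} (h : CoQ x0 z q a) (k : J) (u : F) :
    CoQ x0 z (c k u * q * (c k u)⁻¹) (fun i => if i k.1 = k.2 then a i + u * a (fl i k.1) else a i) := by
  intro i b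
  have hinv := inv_of_add L.two (L.c_add k) u
  have hX : ∀ r, c k u * x0 r * (c k u)⁻¹ = x0 r := fun r => by rw [← L.x0_c, mul_inv_cancel_right]
  by_cases h1 : i k.1 = k.2
  · -- `c` commutes with `z i b`
    have h2 := L.c_z' k u i b h1
    have h3 : (c k u)⁻¹ * z i b * c k u = z i b := by rw [mul_assoc, ← h2, inv_mul_cancel_left]
    have h4 : ¬ (op i) k.1 = k.2 := by
      rw [← h1]; simp [op]
    beta_reduce
    rw [if_neg h4]
    calc c k u * q * (c k u)⁻¹ * z i b * (c k u * q * (c k u)⁻¹)⁻¹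
        = c k u * (q * ((c k u)⁻¹ * z i b * c k u) * q⁻¹) * (c k u)⁻¹ := by group
      _ = (c k u * x0 (a (op i) * b) * (c k u)⁻¹) * (c k u * z i b * (c k u)⁻¹) := by rw [h3, h i b]; group
      _ = _ := by rw [hX, h2, mul_inv_cancel_right]
  · have h2 := L.c_z k u i b h1
    have h3 : (c k u)⁻¹ * z i b * c k u = z (fl i k.1) (u * b) * z i b := by
      rw [hinv] at h2 ⊢; exact h2
    have h4 : (op i) k.1 = k.2 := by
      rcases k with ⟨k, s⟩
      cases s <;> simp_all [op]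
    beta_reduce
    rw [if_pos h4]
    have h5 : op (fl i k.1) = fl (op i) k.1 := by
      funext m; by_cases hm : m = k.1 <;> simp [op, fl, hm]
    calc c k u * q * (c k u)⁻¹ * z i b * (c k u * q * (c k u)⁻¹)⁻¹
        = c k u * (q * ((c k u)⁻¹ * z i b * c k u) * q⁻¹) * (c k u)⁻¹ := by group
      _ = c k u * ((q * z (fl i k.1) (u * b) * q⁻¹) * (q * z i b * q⁻¹)) * (c k u)⁻¹ := by rw [h3]; group
      _ = c k u * (x0 (a (fl (op i) k.1) * (u * b)) * z (fl i k.1) (u * b) * (x0 (a (op i) * b) * z i b)) *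
          (c k u)⁻¹ := by rw [h (fl i k.1), h i b, h5]
      _ = c k u * (x0 (a (fl (op i) k.1) * (u * b)) * (z (fl i k.1) (u * b) * x0 (a (op i) * b)) * z i b) *
          (c k u)⁻¹ := by group
      _ = c k u * (x0 (a (fl (op i) k.1) * (u * b)) * (x0 (a (op i) * b) * z (fl i k.1) (u * b)) * z i b) *
          (c k u)⁻¹ := by rw [← L.x0_z]
      _ = (c k u * (x0 (a (fl (op i) k.1) * (u * b)) * x0 (a (op i) * b)) * (c k u)⁻¹) *
          ((c k u * z (fl i k.1) (u * b) * (c k u)⁻¹) * (c k u * z i b * (c k u)⁻¹)) := by group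
      _ = x0 ((a (op i) + u * a (fl (op i) k.1)) * b) * z i b := by
        have h6 : (fl i k.1) k.1 = k.2 := by
          rw [fl_self]
          rcases k with ⟨k, s⟩
          cases s <;> simp_all
        rw [← L.x0_add, hX, L.c_z' k u (fl i k.1) (u * b) h6, mul_inv_cancel_right, h2, ← mul_assoc (z _ _),
          self_of_add L.two (L.z_add _), one_mul]
        congr 2; ring

end

/-- induction over the spin weights -/
theorem sp_ind {A : Sp → Prop} (h0 : A (fun _ => true)) (h : ∀ i k, A i → A (fl i k)) (i : Sp) : A i := by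
  have step : ∀ (i : Sp) (k : Fin 3) (b : Bool), A i → A (fun m => if m = k then b else i m) := by
    intro i k b hi
    by_cases hb : b = i k
    · have : (fun m => if m = k then b else i m) = i := by
        funext m; by_cases hm : m = k
        · rw [if_pos hm, hb, hm]
        · rw [if_neg hm]
      rwa [this]
    · have : (fun m => if m = k then b else i m) = fl i k := by
        funext m; by_cases hm : m = k
        · rw [if_pos hm, hm, fl_self]
          revert hb; cases b <;> cases (i k) <;> simp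
        · rw [if_neg hm, fl_ne _ hm]
      rw [this]; exact h i k hi
  have h1 := step _ 2 (i 2) (step _ 1 (i 1) (step _ 0 (i 0) h0))
  have : (fun m : Fin 3 => if m = 2 then i 2 else if m = 1 then i 1 else if m = 0 then i 0 else true) = i := by
    funext m; fin_cases m <;> simp
  rwa [this] at h1

section

variable (L : LocA x0 v z c l th)

include L

theorem coQ_inv {q : G} {a : Sp → F} (hq : q ∈ Qs x0 v z) (h : CoQ x0 z q a) : CoQ x0 z q⁻¹ a := by
  have h1 : q⁻¹ = q * (q * q)⁻¹ := by group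
  have h3 := CoQ.mul L hq h (L.coQ_V (inv_mem (L.Q2 hq)))
  rwa [add_zero, ← h1] at h3

theorem exists_ws (i : Sp) (a : Fˣ) : ∃ ν : Fin 3 → Fˣ, ws ν i = a := by
  refine ⟨fun k => if k = 0 then (if i 0 then a else a⁻¹) else 1, ?_⟩
  unfold ws
  rw [Fin.prod_univ_three]
  cases h0 : i 0 <;> cases h1 : i 1 <;> cases h2 : i 2 <;> simp

/-- `P` is irreducible on `Q / V`. -/
theorem irrQ {R : Subgroup G} (h1 : Vs x0 v ≤ R) (h2 : R ≤ Qs x0 v z)
    (h3 : ∀ p ∈ Ps x0 v z c l th, ∀ r ∈ R, p * r * p⁻¹ ∈ R) : R = Vs x0 v ∨ R = Qs x0 v z := by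
  by_cases hR : R ≤ Vs x0 v
  · exact Or.inl (le_antisymm hR h1)
  right
  apply le_antisymm h2
  obtain ⟨g, hg, hgV⟩ := SetLike.not_le_iff_exists.1 hR
  have claim : ∀ n : ℕ, n ≤ 3 → ∃ q ∈ R, ∃ a, CoQ x0 z q a ∧ a ≠ 0 ∧
      ∀ i, a i ≠ 0 → ∀ k : Fin 3, k.val < n → i k = true := by
    intro n
    induction n with
    | zero =>
      intro _
      obtain ⟨a, ha⟩ := L.coQ_of_mem (h2 hg)
      refine ⟨g, hg, a, ha, ?_, fun i _ k hk => absurd hk (Nat.not_lt_zero _)⟩
      rintro rfl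
      exact hgV (L.mem_V_of_coQ (h2 hg) ha)
    | succ n ih =>
      intro hn
      obtain ⟨q, hq, a, ha, ha0, hsup⟩ := ih (by omega)
      let k : Fin 3 := ⟨n, by omega⟩
      have h4 := CoQ.conj_c L ha (k, true) 1
      have h5 := CoQ.mul L (L.PQ (c_mem (k, true) 1) (h2 hq)) h4 (L.coQ_inv (h2 hq) ha)
      set a' : Sp → F := (fun i => if i (k, true).1 = (k, true).2 then a i + 1 * a (fl i (k, true).1) else a i) + a
        with ha'
      have h6 : ∀ i, a' i = if i k = true then a (fl i k) else 0 := by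
        intro i
        rw [ha', Pi.add_apply]
        show (if i k = true then a i + 1 * a (fl i k) else a i) + a i = _
        by_cases h : i k = true
        · rw [if_pos h, if_pos h, one_mul, add_comm (a i), add_assoc, L.two, add_zero]
        · rw [if_neg h, if_neg h, L.two]
      by_cases h7 : a' = 0
      · refine ⟨q, hq, a, ha, ha0, fun i hi m hm => ?_⟩
        rcases Nat.lt_succ_iff_lt_or_eq.1 hm with h8 | h8
        · exact hsup i hi m h8
        · have hmk : m = k := Fin.ext h8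
          rw [hmk]
          by_contra h9
          apply hi
          have h10 := congrFun h7 (fl i k)
          rw [h6, fl_self, fl_fl, if_pos (by simpa using h9), Pi.zero_apply] at h10
          exact h10
      · refine ⟨_, mul_mem (h3 _ (c_mem (k, true) 1) q hq) (inv_mem hq), a', h5, h7, fun i hi m hm => ?_⟩
        rw [h6] at hi
        have h8 : i k = true := by
          by_contra h
          exact hi (if_neg h)
        rw [if_pos h8] at hi
        rcases Nat.lt_succ_iff_lt_or_eq.1 hm with h9 | h9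
        · have h10 := hsup _ hi m h9
          rwa [fl_ne] at h10
          intro h; rw [h] at h9; exact absurd h9 (lt_irrefl _)
        · have hmk : m = k := Fin.ext h9
          rw [hmk]; exact h8
  obtain ⟨q, hq, a, ha, ha0, hsup⟩ := claim 3 le_rfl
  set top : Sp := fun _ => true with htop
  have h4 : ∀ i, i ≠ top → a i = 0 := by
    intro i hi
    by_contra h
    exact hi (funext fun k => hsup i h k k.2)
  have h5 : a = Pi.single top (a top) := by
    funext i
    by_cases h : i = top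
    · rw [h, Pi.single_eq_same]
    · rw [Pi.single_eq_of_ne h, h4 i h]
  have h6 : a top ≠ 0 := by
    intro h
    apply ha0
    rw [h5, h, Pi.single_zero]
  have h7 : z top (a top) ∈ R := by
    have h8 := CoQ.mul L (h2 hq) ha (L.coQ_single top (a top))
    rw [← h5] at h8
    have h9 : a + a = 0 := funext fun i => L.two (a i)
    rw [h9] at h8
    have h10 := L.mem_V_of_coQ (mul_mem (h2 hq) (z_mem _ _)) h8
    have h11 := mul_mem (inv_mem hq) (h1 h10)
    rwa [inv_mul_cancel_left] at h11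
  have hz : ∀ i w, w ≠ 0 → z i w ∈ R → ∀ u, z i u ∈ R := by
    intro i w hw hi u
    by_cases hu : u = 0
    · rw [hu, zero_of_add (L.z_add i)]; exact one_mem _
    obtain ⟨ν, hν⟩ := L.exists_ws i (Units.mk0 u hu * (Units.mk0 w hw)⁻¹)
    have h8 := h3 _ (th_mem ν) _ hi
    rw [L.th_z, hν, Units.val_mul, Units.val_mk0, Units.val_inv_eq_inv_val, Units.val_mk0, mul_assoc,
      inv_mul_cancel₀ hw, mul_one] at h8
    exact h8
  have hall : ∀ i, ∀ u, z i u ∈ R := by
    intro i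
    refine sp_ind (A := fun i => ∀ u, z i u ∈ R) (hz top _ h6 h7) (fun i k hi u => ?_) i
    have h8 := h3 _ (c_mem (k, !i k) u) _ (hi 1)
    rw [L.c_z _ _ _ _ (by simp), mul_one] at h8
    have h9 := mul_mem h8 (inv_mem (hi 1))
    rwa [mul_inv_cancel_right] at h9
  rw [Qs, closure_le]
  rintro g (hg | ⟨i, a, rfl⟩)
  · exact h1 (subset_closure hg)
  · exact hall i a

theorem X_le_comm : Xs x0 ≤ ⁅Qs x0 v z, Qs x0 v z⁆ := by
  intro x hx
  obtain ⟨a, rfl⟩ := L.mem_X.1 hx
  have h1 := commutator_mem_commutator (z_mem (x0 := x0) (v := v) (z := z) (fun _ => true) a)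
    (z_mem (x0 := x0) (v := v) (z := z) (op fun _ => true) 1)
  rw [commutatorElement_def, L.z_op, mul_one, mul_inv_cancel_right] at h1
  exact h1

theorem neQ : ∃ q ∈ Qs x0 v z, q ∉ Vs x0 v := by
  refine ⟨z (fun _ => true) 1, z_mem _ _, fun h => ?_⟩
  have h4 := CoQ.unique L (L.coQ_V h) (L.coQ_single _ _)
  have h5 := congrFun h4 (fun _ => true)
  rw [Pi.single_eq_same, Pi.zero_apply] at h5
  exact one_ne_zero h5.symm

theorem neV : ∃ y ∈ Vs x0 v, y ∉ Xs x0 := by
  refine ⟨v (0, true) 1, v_mem _ _, fun h => ?_⟩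
  obtain ⟨a, ha⟩ := L.mem_X.1 h
  exact one_ne_zero (L.xv _ _ _ ha.symm)

/-- an additive function which is invariant under a scalar `≠ 1` vanishes -/
theorem add_zero_of_inv {g : F → F} (hg : ∀ a b, g (a + b) = g a + g b) {μ : F} (hμ : μ ≠ 1)
    (h : ∀ a, g (μ * a) = g a) (a : F) : g a = 0 := by
  have h0 : μ + 1 ≠ 0 := fun h => hμ (L.add_eq_zero h)
  have h1 : g ((μ + 1) * (a * (μ + 1)⁻¹)) = 0 := by
    rw [add_mul, one_mul, hg, h, L.two]
  rwa [mul_comm, mul_assoc, inv_mul_cancel₀ h0, mul_one] at h1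

end

end Cfsg.Agent.Omega.All.F4K.LocA
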